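import Cfsg.Agent.Lib.AEightLocal.Search
import Mathlib

/-!
The degree equations attached to the six coefficient configurations have no solution for groups
of order at least `21960`: a branch and bound over the degrees.
-/

set_option autoImplicit false

namespace CfsgLib.AEightLocal

/-- The value at a `y`-element. -/
def aOf (v : List ℤ) : ℤ := v.getD 3 0 + v.getD 2 0 - v.getD 4 0

/-- The value at a `z`-element. -/
def zOf (v : List ℤ) : ℤ := v.getD 3 0 + 4 * v.getD 2 0 + 5 * v.getD 4 0 + 3 * v.getD 5 0

def t1Of (v : List ℤ) : ℤ := aOf v * aOf v * zOf v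

def t2Of (v : List ℤ) : ℤ := aOf v * zOf v * zOf v

/-- The lower bound of the degree from non-negativity of multiplicities. -/
def lbOf (v : List ℤ) : ℤ :=
  let a := v.getD 3 0
  let b := v.getD 2 0
  let c := v.getD 4 0
  let r := v.getD 5 0
  a + 4 * b + 5 * c + 3 * r +
    3 * (b + 2 * c + r + 3 * max 0 (-b) + 6 * max (max 0 (-c)) (max 0 (-a) + max 0 (-b) - (b + 2 * c + r))) +
    9 * max 0 (-r)

/-- The residue of the degree modulo `9`. -/
def resOf (v : List ℤ) : ℕ := ((2 * zOf v - aOf v) % 9).toNat

/-- The linear relations used, and their right hand sides. -/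
def sel : List (List ℤ × ℤ) :=
  [([0, 0, 1, 0], -1), ([1, -1, 0, 0], 1), ([1, 0, 0, 0], 1), ([1, 0, 0, 1], 1), ([0, 0, 0, 1], 0),
    ([0, 1, 0, 0], 0), ([1, -1, 1, 0], 0)]

def dotSel (s v : List ℤ) : ℤ :=
  s.getD 0 0 * v.getD 1 0 + s.getD 1 0 * v.getD 2 0 + s.getD 2 0 * v.getD 3 0 + s.getD 3 0 * v.getD 4 0

/-- The equations for a list of columns with their degrees. -/
structure Meets (G : ℕ) (p : List (List ℤ × ℕ)) : Prop where
  lin : ∀ s ∈ sel, (p.map fun q => dotSel s.1 q.1 * (q.2 : ℤ)).sum = s.2
  one : (G : ℚ) * (1 + (p.map fun q => (t1Of q.1 : ℚ) / (q.2 : ℚ)).sum) = 45360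
  two : (G : ℚ) * (1 + (p.map fun q => (t2Of q.1 : ℚ) / (q.2 : ℚ)).sum) = 64800
  dvd : ∀ q ∈ p, q.2 ∣ G
  sq : ∀ q ∈ p, q.2 * q.2 ≤ G

/-- Possible degrees of a column. -/
structure Box where
  v : List ℤ
  ks : List ℤ
  rs : List ℤ
  wd : ℤ
  r : ℕ
  lo : ℕ
  hi : Option ℕ

def Fit (b : Box) (q : List ℤ × ℕ) : Prop :=
  q.1 = b.v ∧ q.2 % 9 = b.r ∧ b.lo ≤ q.2 ∧ (∀ h, b.hi = some h → q.2 ≤ h) ∧ 0 < q.2

/-- The weights of the order equations. -/
def wts : List (ℤ × ℤ) := [(1, 0), (0, 1), (5, 1), (-10, 7), (10, -7), (-1, 0), (0, -1)]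

/-- The signed linear relations. -/
def rels2 : List (List ℤ × ℤ × ℤ) := sel.flatMap fun s => [(s.1, s.2, 1), (s.1, s.2, -1)]

/-- The precomputed data are those of the vector. -/
def Wf (b : Box) : Prop :=
  b.ks = wts.map (fun w => w.1 * t1Of b.v + w.2 * t2Of b.v) ∧
    b.rs = rels2.map (fun s => s.2.2 * dotSel s.1 b.v)

def FitAlts (o : List Box) (q : List ℤ × ℕ) : Prop := ∃ b ∈ o, Wf b ∧ Fit b q

/-- The least number `≥ x` with residue `r`. -/
def up (x r : ℕ) : ℕ := x + (r + 9 - x % 9) % 9

theorem up_le {x r d : ℕ} (h : x ≤ d) (hd : d % 9 = r) : up x r ≤ d := by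
  unfold up; omega

def SC : ℤ := 1000000000

/-- A lower bound of `SC * k / d`. -/
def bnd (k : ℤ) (b : Box) : ℤ :=
  if 0 ≤ k then (match b.hi with | none => 0 | some h => k * SC / (h : ℤ)) else k * SC / (b.lo : ℤ)

theorem ediv_le (a : ℤ) {n : ℕ} (hn : 0 < n) : ((a / (n : ℤ) : ℤ) : ℚ) ≤ (a : ℚ) / (n : ℚ) := by
  rw [le_div_iff₀ (by exact_mod_cast hn)]
  have := Int.ediv_mul_le a (show (n : ℤ) ≠ 0 by omega)
  exact_mod_cast this

theorem bnd_le (k : ℤ) {b : Box} {q : List ℤ × ℕ} (h : Fit b q) (hlo : 0 < b.lo) :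
    (bnd k b : ℚ) ≤ (SC : ℚ) * ((k : ℚ) / (q.2 : ℚ)) := by
  obtain ⟨-, -, hl, hh, hd⟩ := h
  have hSC : (0 : ℚ) ≤ (SC : ℚ) := by norm_num [SC]
  have hdq : (0 : ℚ) < (q.2 : ℚ) := by exact_mod_cast hd
  rw [bnd]
  split_ifs with hk
  · have hkq : (0 : ℚ) ≤ (k : ℚ) := by exact_mod_cast hk
    split
    · simp only [Int.cast_zero]; positivity
    · next hi e =>
      have hle := hh _ e
      refine (ediv_le _ (by omega)).trans ?_
      push_cast
      rw [mul_comm (k : ℚ), mul_div_assoc]
      gcongr
  · have hkq : (k : ℚ) ≤ 0 := by exact_mod_cast (le_of_lt (not_le.mp hk))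
    refine (ediv_le _ hlo).trans ?_
    push_cast
    rw [mul_comm (k : ℚ), mul_div_assoc]
    refine mul_le_mul_of_nonneg_left ?_ hSC
    rw [div_le_div_iff₀ (by exact_mod_cast hlo) hdq]
    have : (b.lo : ℚ) ≤ (q.2 : ℚ) := by exact_mod_cast hl
    nlinarith

def minList : List ℤ → ℤ
  | [] => 0
  | [a] => a
  | a :: L => min a (minList L)

theorem minList_le : ∀ (L : List ℤ) (a : ℤ), a ∈ L → minList L ≤ a
  | [], _, h => by simp at h
  | [b], a, h => by simp at h; simp [minList, h]
  | b :: c :: L, a, h => by
    rw [minList]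
    rcases List.mem_cons.mp h with rfl | h
    · exact min_le_left _ _
    · exact (min_le_right _ _).trans (minList_le _ _ h)
    · simp

def minOpt : List (Option ℤ) → Option ℤ
  | [] => none
  | [a] => a
  | a :: L => match a, minOpt L with
    | some x, some y => some (min x y)
    | _, _ => none

theorem minOpt_le : ∀ (L : List (Option ℤ)) (a : Option ℤ), a ∈ L → ∀ m, minOpt L = some m →
    ∃ x, a = some x ∧ m ≤ x
  | [], _, h, _, _ => by simp at h
  | [b], a, h, m, hm => by simp at h; subst h; exact ⟨m, hm, le_rfl⟩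
  | b :: c :: L, a, h, m, hm => by
    cases b with
    | none => simp [minOpt] at hm
    | some x =>
      cases e : minOpt (c :: L) with
      | none => simp [minOpt, e] at hm
      | some y =>
        simp only [minOpt, e, Option.some.injEq] at hm
        subst hm
        rcases List.mem_cons.mp h with rfl | h
        · exact ⟨x, rfl, min_le_left _ _⟩
        · obtain ⟨z, hz, hle⟩ := minOpt_le _ _ h y e
          exact ⟨z, hz, (min_le_right _ _).trans hle⟩

/-- A lower bound of `k * d`, `none` for unbounded. -/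
def lowMul (k : ℤ) (b : Box) : Option ℤ :=
  if 0 ≤ k then some (k * (b.lo : ℤ)) else b.hi.map fun h => k * (h : ℤ)

theorem lowMul_le {k : ℤ} {b : Box} {q : List ℤ × ℕ} (h : Fit b q) {x : ℤ} (e : lowMul k b = some x) :
    x ≤ k * (q.2 : ℤ) := by
  obtain ⟨-, -, hl, hh, -⟩ := h
  unfold lowMul at e
  split_ifs at e with hk
  · simp only [Option.some.injEq] at e
    subst e
    exact mul_le_mul_of_nonneg_left (by exact_mod_cast hl) hk
  · cases hhi : b.hi with
    | none => simp [hhi] at e
    | some hv =>
      rw [hhi] at e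
      obtain rfl : k * (hv : ℤ) = x := Option.some.inj e
      exact mul_le_mul_of_nonpos_left (by exact_mod_cast hh _ hhi) (le_of_lt (not_le.mp hk))

/-- `List.getD` by structural recursion. -/
def nth : List ℤ → ℕ → ℤ
  | [], _ => 0
  | a :: _, 0 => a
  | _ :: L, n + 1 => nth L n

theorem nth_eq : ∀ (L : List ℤ) (n : ℕ), nth L n = L.getD n 0
  | [], n => by simp [nth]
  | a :: L, 0 => by simp [nth]
  | a :: L, n + 1 => by simp [nth, nth_eq L]

def sumOpt : List (Option ℤ) → Option ℤ
  | [] => some 0
  | a :: L => match a, sumOpt L with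
    | some x, some y => some (x + y)
    | _, _ => none

theorem sumOpt_le {α β : Type*} (f : α → Option ℤ) (g : β → ℤ) {R : α → β → Prop}
    (hR : ∀ a b, R a b → ∀ m, f a = some m → m ≤ g b) :
    ∀ (L : List α) (P : List β), List.Forall₂ R L P → ∀ m, sumOpt (L.map f) = some m → m ≤ (P.map g).sum
  | [], _, h, m, hm => by
    cases h; simp [sumOpt] at hm; simp [← hm]
  | a :: L, _, h, m, hm => by
    cases h with
    | cons hab hrest =>
      rename_i b P
      cases e1 : f a with
      | none => simp [sumOpt, e1] at hm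
      | some x =>
        cases e2 : sumOpt (L.map f) with
        | none => simp [sumOpt, e1, e2] at hm
        | some y =>
          simp only [List.map_cons, sumOpt, e1, e2, Option.some.injEq] at hm
          subst hm
          simp only [List.map_cons, List.sum_cons]
          exact add_le_add (hR _ _ hab _ e1) (sumOpt_le f g hR L P hrest y e2)

/-- The `i`th signed linear relation, with right hand side `t`, is violated. -/
def killRow (i : ℕ) (t : ℤ) (al : List (List Box)) : Bool :=
  match sumOpt (al.map fun o => minOpt (o.map fun b => lowMul (nth b.rs i) b)) with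
  | some m => decide (t < m)
  | none => false

theorem sel_of_rels2 {s : List ℤ × ℤ × ℤ} (h : s ∈ rels2) : (s.1, s.2.1) ∈ sel := by
  simp only [rels2, List.mem_flatMap] at h
  obtain ⟨r, hr, hs⟩ := h
  simp only [List.mem_cons, List.not_mem_nil, or_false] at hs
  rcases hs with rfl | rfl <;> exact hr

theorem killRow_sound {G : ℕ} {p : List (List ℤ × ℕ)} (hp : Meets G p) {al : List (List Box)}
    (hf : List.Forall₂ FitAlts al p) (i : ℕ) (hi : i < rels2.length) :
    killRow i ((rels2[i]).2.2 * (rels2[i]).2.1) al = false := by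
  unfold killRow
  split
  · next m hm =>
    refine decide_eq_false fun hlt => ?_
    have h := sumOpt_le (R := FitAlts) (fun o => minOpt (o.map fun b => lowMul (nth b.rs i) b))
      (fun q => (rels2[i]).2.2 * (dotSel (rels2[i]).1 q.1 * (q.2 : ℤ))) (fun o q hoq m hm => by
        obtain ⟨b, hb, ⟨-, hrs⟩, hfit⟩ := hoq
        obtain ⟨x, hx, hle⟩ := minOpt_le _ _ (List.mem_map.mpr ⟨b, hb, rfl⟩) m hm
        refine hle.trans ((lowMul_le hfit hx).trans (le_of_eq ?_))
        rw [hrs, nth_eq, List.getD_eq_getElem _ _ (by simpa using hi), List.getElem_map, hfit.1]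
        ring) al p hf m hm
    have hl := hp.lin _ (sel_of_rels2 (List.getElem_mem hi))
    simp only at hl
    rw [List.sum_map_mul_left, hl] at h
    omega
  · rfl

/-- The `i`th order equation with weights `a`, `b` is violated. -/
def killW (glo : ℕ) (ghi : Option ℕ) (i : ℕ) (a b : ℤ) (al : List (List Box)) : Bool :=
  let s := (a + b) * SC + (al.map fun o => minList (o.map fun x => bnd (nth x.ks i) x)).sum
  let t := (a * 45360 + b * 64800) * SC
  if 0 ≤ t then decide (t < s * (glo : ℤ)) else
    match ghi with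
    | some g => decide (t < s * (g : ℤ))
    | none => decide (0 < s)

theorem sum_le_sum₂ {α β : Type*} (f : α → ℤ) (g : β → ℚ) {R : α → β → Prop}
    (hR : ∀ a b, R a b → (f a : ℚ) ≤ g b) :
    ∀ (L : List α) (P : List β), List.Forall₂ R L P → ((L.map f).sum : ℚ) ≤ (P.map g).sum
  | [], _, h => by cases h; simp
  | a :: L, _, h => by
    cases h with
    | cons hab hrest =>
      simp only [List.map_cons, List.sum_cons, Int.cast_add]
      exact add_le_add (hR _ _ hab) (sum_le_sum₂ f g hR L _ hrest)

theorem forall₂_mem_right {α β : Type*} {R : α → β → Prop} : ∀ {L : List α} {P : List β},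
    List.Forall₂ R L P → List.Forall₂ (fun a b => b ∈ P ∧ R a b) L P
  | _, _, .nil => .nil
  | _, _, .cons h t => .cons ⟨List.mem_cons_self, h⟩
      ((forall₂_mem_right t).imp fun _ _ ⟨hm, hr⟩ => ⟨List.mem_cons_of_mem _ hm, hr⟩)

theorem forall₂_mem_left {α β : Type*} {R : α → β → Prop} : ∀ {L : List α} {P : List β},
    List.Forall₂ R L P → List.Forall₂ (fun a b => a ∈ L ∧ R a b) L P
  | _, _, .nil => .nil
  | _, _, .cons h t => .cons ⟨List.mem_cons_self, h⟩
      ((forall₂_mem_left t).imp fun _ _ ⟨hm, hr⟩ => ⟨List.mem_cons_of_mem _ hm, hr⟩)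

theorem sum_split (a b : ℤ) (c : ℚ) : ∀ p : List (List ℤ × ℕ),
    (p.map fun q => c * (((a * t1Of q.1 + b * t2Of q.1 : ℤ) : ℚ) / (q.2 : ℚ))).sum =
      c * ((a : ℚ) * (p.map fun q => (t1Of q.1 : ℚ) / (q.2 : ℚ)).sum +
        (b : ℚ) * (p.map fun q => (t2Of q.1 : ℚ) / (q.2 : ℚ)).sum)
  | [] => by simp
  | q :: p => by
    simp only [List.map_cons, List.sum_cons, sum_split a b c p]
    push_cast
    ring

theorem killW_sound {G : ℕ} {p : List (List ℤ × ℕ)} (hp : Meets G p) {al : List (List Box)}
    (hpos : ∀ o ∈ al, ∀ x ∈ o, 0 < x.lo)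
    (hf : List.Forall₂ FitAlts al p) (glo : ℕ) (ghi : Option ℕ) (hlo : glo ≤ G)
    (hhi : ∀ g, ghi = some g → G ≤ g) (i : ℕ) (hi : i < wts.length) :
    killW glo ghi i (wts[i]).1 (wts[i]).2 al = false := by
  have hG : (0 : ℚ) < (G : ℚ) := by
    rcases Nat.eq_zero_or_pos G with h | h
    · have := hp.one; rw [h] at this; norm_num at this
    · exact_mod_cast h
  set a := (wts[i]).1 with ha
  set b := (wts[i]).2 with hb
  set s := (a + b) * SC + (al.map fun o => minList (o.map fun x => bnd (nth x.ks i) x)).sum
    with hs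
  set t := (a * 45360 + b * 64800) * SC with ht
  have hsum : (((al.map fun o => minList (o.map fun x => bnd (nth x.ks i) x)).sum : ℤ) : ℚ) ≤
      (p.map fun q => (SC : ℚ) * (((a * t1Of q.1 + b * t2Of q.1 : ℤ) : ℚ) / (q.2 : ℚ))).sum := by
    have hf' := forall₂_mem_left hf
    refine sum_le_sum₂ _ _ (fun o q ⟨ho, hoq⟩ => ?_) al p hf'
    obtain ⟨x, hx, ⟨hks, -⟩, hfit⟩ := hoq
    refine le_trans (Int.cast_le.mpr (minList_le (o.map fun x => bnd (nth x.ks i) x) _
      (List.mem_map.mpr ⟨x, hx, rfl⟩))) ?_
    have hk : nth x.ks i = a * t1Of q.1 + b * t2Of q.1 := by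
      rw [hks, nth_eq, List.getD_eq_getElem _ _ (by simpa using hi), List.getElem_map, hfit.1]
    rw [hk]
    exact bnd_le _ hfit (hpos o ho x hx)
  have e : (G : ℚ) * ((a : ℚ) * (1 + (p.map fun q => (t1Of q.1 : ℚ) / (q.2 : ℚ)).sum) +
      (b : ℚ) * (1 + (p.map fun q => (t2Of q.1 : ℚ) / (q.2 : ℚ)).sum)) = a * 45360 + b * 64800 := by
    rw [mul_add, mul_left_comm, hp.one, mul_left_comm, hp.two]
  have hmain : (s : ℚ) * (G : ℚ) ≤ (t : ℚ) := by
    have h2 := sum_split (a : ℤ) b (SC : ℚ) p
    rw [h2] at hsum
    calc (s : ℚ) * (G : ℚ) ≤ ((a + b : ℤ) * (SC : ℚ) + (SC : ℚ) * ((a : ℚ) *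
          (p.map fun q => (t1Of q.1 : ℚ) / (q.2 : ℚ)).sum +
          (b : ℚ) * (p.map fun q => (t2Of q.1 : ℚ) / (q.2 : ℚ)).sum)) * (G : ℚ) := by
          refine mul_le_mul_of_nonneg_right ?_ hG.le
          rw [hs, Int.cast_add, Int.cast_mul]
          linarith
      _ = (SC : ℚ) * ((G : ℚ) * ((a : ℚ) * (1 + (p.map fun q => (t1Of q.1 : ℚ) / (q.2 : ℚ)).sum) +
          (b : ℚ) * (1 + (p.map fun q => (t2Of q.1 : ℚ) / (q.2 : ℚ)).sum))) := by push_cast; ring
      _ = (t : ℚ) := by rw [e, ht]; push_cast; ring
  have hmainZ : s * (G : ℤ) ≤ t := by exact_mod_cast hmain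
  unfold killW
  simp only [← hs, ← ht]
  have hG0 : 0 ≤ (G : ℤ) := by positivity
  split_ifs with h0
  · refine decide_eq_false fun hlt => ?_
    have : (glo : ℤ) ≤ G := by exact_mod_cast hlo
    rcases le_or_gt 0 s with hs0 | hs0
    · have := mul_le_mul_of_nonneg_left this hs0
      linarith
    · have := mul_nonpos_of_nonpos_of_nonneg hs0.le (Int.natCast_nonneg glo)
      linarith
  · have hs0 : s < 0 := by
      by_contra hc
      have := mul_nonneg (not_lt.mp hc) hG0
      linarith [not_le.mp h0]
    split
    · next g =>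
      refine decide_eq_false fun hlt => ?_
      have : (G : ℤ) ≤ g := by exact_mod_cast hhi g rfl
      have := mul_le_mul_of_nonpos_left this hs0.le
      linarith
    · exact decide_eq_false fun hlt => by linarith

/-- Restrict a box to a list of possible degrees. -/
def tightBox (ds : List ℕ) (b : Box) : Option Box :=
  match ds.filter fun d => decide (d % 9 = b.r) && decide (b.lo ≤ d) &&
      (match b.hi with | none => true | some h => decide (d ≤ h)) with
  | [] => none
  | d :: L => some { b with lo := L.foldr min d, hi := some (L.foldr max d) }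

theorem foldr_bounds : ∀ (L : List ℕ) (d x : ℕ), x ∈ d :: L → L.foldr min d ≤ x ∧ x ≤ L.foldr max d
  | [], d, x, h => by simp at h; simp [h]
  | a :: L, d, x, h => by
    simp only [List.foldr_cons]
    have hd := foldr_bounds L d d (by simp)
    rcases List.mem_cons.mp h with rfl | h
    · exact ⟨(min_le_right _ _).trans hd.1, hd.2.trans (le_max_right _ _)⟩
    rcases List.mem_cons.mp h with rfl | h
    · exact ⟨min_le_left _ _, le_max_left _ _⟩
    · have := foldr_bounds L d x (List.mem_cons_of_mem _ h)
      exact ⟨(min_le_right _ _).trans this.1, this.2.trans (le_max_right _ _)⟩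

def tightO (dv : Option (List ℕ)) (o : List Box) : List Box :=
  match dv with
  | none => o
  | some ds => o.filterMap (tightBox ds)

theorem tightO_sound {q : List ℤ × ℕ} (dv : Option (List ℕ)) (hdv : ∀ ds, dv = some ds → q.2 ∈ ds)
    {o : List Box} (hf : FitAlts o q) : FitAlts (tightO dv o) q := by
  cases dv with
  | none => exact hf
  | some ds =>
    have hds := hdv ds rfl
    obtain ⟨b, hb, hwf, hv, hr, hl, hh, hd⟩ := hf
    set F := ds.filter fun d => decide (d % 9 = b.r) && decide (b.lo ≤ d) &&
      (match b.hi with | none => true | some h => decide (d ≤ h)) with hF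
    have hqF : q.2 ∈ F := by
      refine List.mem_filter.mpr ⟨hds, ?_⟩
      cases e : b.hi with
      | none => simp [hr, hl]
      | some h => simp [hr, hl, hh h e]
    cases eF : F with
    | nil => rw [eF] at hqF; simp at hqF
    | cons d L =>
      refine ⟨{ b with lo := L.foldr min d, hi := some (L.foldr max d) },
        List.mem_filterMap.mpr ⟨b, hb, ?_⟩, hwf, hv, hr, ?_, ?_, hd⟩
      · unfold tightBox
        rw [← hF, eF]
      · exact (foldr_bounds L d q.2 (eF ▸ hqF)).1
      · intro h he
        simp only [Option.some.injEq] at he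
        exact he ▸ (foldr_bounds L d q.2 (eF ▸ hqF)).2

/-- Right hand sides of the signed relations, with their indices. -/
def rhs2 : List (ℕ × ℤ) := (List.range rels2.length).map fun i => (i, (rels2.getD i ([], 0, 0)).2.2 * (rels2.getD i ([], 0, 0)).2.1)

/-- The weights with their indices. -/
def iwts : List (ℕ × ℤ × ℤ) := (List.range wts.length).map fun i => (i, wts.getD i (0, 0))

def killed (glo : ℕ) (ghi : Option ℕ) (al : List (List Box)) : Bool :=
  al.any (fun o => o.isEmpty) || (al.all (fun o => o.all fun x => decide (0 < x.lo)) &&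
    iwts.any (fun w => killW glo ghi w.1 w.2.1 w.2.2 al)) ||
    rhs2.any (fun s => killRow s.1 s.2 al)

theorem killed_sound {G : ℕ} {p : List (List ℤ × ℕ)} (hp : Meets G p) {al : List (List Box)}
    (hf : List.Forall₂ FitAlts al p) (glo : ℕ) (ghi : Option ℕ) (hlo : glo ≤ G)
    (hhi : ∀ g, ghi = some g → G ≤ g) : killed glo ghi al = false := by
  unfold killed
  simp only [Bool.or_eq_false_iff, Bool.and_eq_false_iff]
  refine ⟨⟨?_, ?_⟩, ?_⟩
  · refine List.any_eq_false.mpr fun o ho hemp => ?_
    rw [List.isEmpty_iff] at hemp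
    subst hemp
    obtain ⟨q, -, b, hb, -⟩ : ∃ q, q ∈ p ∧ FitAlts [] q := by
      clear hp
      induction hf with
      | nil => simp at ho
      | cons hab _ ih =>
        rcases List.mem_cons.mp ho with e | e
        · exact ⟨_, by simp, e ▸ hab⟩
        · obtain ⟨q, hq, hfit⟩ := ih e
          exact ⟨q, List.mem_cons_of_mem _ hq, hfit⟩
    simp at hb
  · by_cases hpos : ∀ o ∈ al, ∀ x ∈ o, 0 < x.lo
    · right
      refine List.any_eq_false.mpr fun w hw => ?_
      obtain ⟨i, hi, rfl⟩ := List.mem_map.mp hw
      rw [List.mem_range] at hi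
      simp only [List.getD_eq_getElem _ _ hi]
      simp [killW_sound hp hpos hf glo ghi hlo hhi i hi]
    · left
      simpa [List.all_eq_false] using hpos
  · refine List.any_eq_false.mpr fun s hs => ?_
    obtain ⟨i, hi, rfl⟩ := List.mem_map.mp hs
    rw [List.mem_range] at hi
    simp only [List.getD_eq_getElem _ _ hi]
    simp [killRow_sound hp hf i hi]

/-- The weight of a box for branching. -/
def width (b : Box) : ℤ :=
  b.wd * (SC / (b.lo : ℤ) - (match b.hi with | none => 0 | some h => SC / (h : ℤ)))

/-- The index to branch at. -/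
def chooseAux : List (List Box) → ℕ → ℕ × ℤ → ℕ
  | [], _, best => best.1
  | o :: L, i, best => match o with
    | [b] => chooseAux L (i + 1) (if best.2 < width b then (i, width b) else best)
    | _ => i

/-- The two halves of a set of alternatives. -/
def split : List Box → List Box × List Box
  | [b] =>
    let mid := match b.hi with
      | none => b.lo + 9 * (b.lo / 9)
      | some h => b.lo + 9 * ((h - b.lo) / 9 / 4)
    let top := match b.hi with
      | none => mid
      | some h => min mid h
    ([{ b with hi := some top }], [{ b with lo := up (top + 1) b.r }])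
  | b :: L => ([b], L)
  | [] => ([], [])

theorem split_sound (o : List Box) (q : List ℤ × ℕ) (h : FitAlts o q) :
    FitAlts (split o).1 q ∨ FitAlts (split o).2 q := by
  match o, h with
  | [], h => obtain ⟨b, hb, -⟩ := h; simp at hb
  | [b], h =>
    obtain ⟨b', hb', hwf, hv, hr, hl, hh, hd⟩ := h
    rw [List.mem_singleton] at hb'
    subst hb'
    simp only [split]
    generalize (match b'.hi with
      | none => b'.lo + 9 * (b'.lo / 9)
      | some h => b'.lo + 9 * ((h - b'.lo) / 9 / 4)) = mid
    generalize (match b'.hi with | none => mid | some h => min mid h) = top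
    by_cases hqt : q.2 ≤ top
    · exact Or.inl ⟨_, List.mem_singleton.mpr rfl, hwf, hv, hr, hl, fun h e => by
        simp only [Option.some.injEq] at e; omega, hd⟩
    · exact Or.inr ⟨_, List.mem_singleton.mpr rfl, hwf, hv, hr, up_le (by omega) hr, hh, hd⟩
  | b :: c :: L, h =>
    obtain ⟨b', hb', hfit⟩ := h
    rcases List.mem_cons.mp hb' with rfl | hb'
    · exact Or.inl ⟨b', by simp [split], hfit⟩
    · exact Or.inr ⟨b', by simpa [split] using hb', hfit⟩

/-- Pass the value of a natural number to a function. -/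
def forceN {α : Type} (n : ℕ) (k : ℕ → α) : α :=
  match n with
  | 0 => k 0
  | m + 1 => k (m + 1)

theorem forceN_eq {α : Type} (n : ℕ) (k : ℕ → α) : forceN n k = k n := by cases n <;> rfl

/-- Pass the value of an integer to a function. -/
def forceZ {α : Type} (z : ℤ) (k : ℤ → α) : α :=
  match z with
  | Int.ofNat m => forceN m fun m => k (Int.ofNat m)
  | Int.negSucc m => forceN m fun m => k (Int.negSucc m)

theorem forceZ_eq {α : Type} (z : ℤ) (k : ℤ → α) : forceZ z k = k z := by
  cases z <;> simp [forceZ, forceN_eq]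

def forceZs {α : Type} : List ℤ → (List ℤ → α) → α
  | [], k => k []
  | a :: L, k => forceZ a fun a => forceZs L fun L => k (a :: L)

theorem forceZs_eq {α : Type} : ∀ (L : List ℤ) (k : List ℤ → α), forceZs L k = k L
  | [], _ => rfl
  | a :: L, k => by simp [forceZs, forceZ_eq, forceZs_eq L]

def forceBox {α : Type} (b : Box) (k : Box → α) : α :=
  match b with
  | ⟨v, ks, rs, wd, r, lo, hi⟩ => forceZs ks fun ks => forceZs rs fun rs => forceZ wd fun wd =>
      forceN r fun r => forceN lo fun lo =>
        match hi with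
        | none => k ⟨v, ks, rs, wd, r, lo, none⟩
        | some h => forceN h fun h => k ⟨v, ks, rs, wd, r, lo, some h⟩

theorem forceBox_eq {α : Type} (b : Box) (k : Box → α) : forceBox b k = k b := by
  obtain ⟨v, ks, rs, wd, r, lo, hi⟩ := b
  cases hi <;> simp [forceBox, forceZs_eq, forceZ_eq, forceN_eq]

/-- Force the bounds of a box. -/
def forceBounds {α : Type} (b : Box) (k : Box → α) : α :=
  match b with
  | ⟨v, ks, rs, wd, r, lo, hi⟩ => forceN lo fun lo =>
      match hi with
      | none => k ⟨v, ks, rs, wd, r, lo, none⟩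
      | some h => forceN h fun h => k ⟨v, ks, rs, wd, r, lo, some h⟩

theorem forceBounds_eq {α : Type} (b : Box) (k : Box → α) : forceBounds b k = k b := by
  obtain ⟨v, ks, rs, wd, r, lo, hi⟩ := b
  cases hi <;> simp [forceBounds, forceN_eq]

def forceList {β α : Type} (f : β → (β → α) → α) : List β → (List β → α) → α
  | [], k => k []
  | a :: L, k => f a fun a => forceList f L fun L => k (a :: L)

theorem forceList_eq {β α : Type} (f : β → (β → α) → α) (hf : ∀ b k, f b k = k b) :
    ∀ (L : List β) (k : List β → α), forceList f L k = k L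
  | [], _ => rfl
  | a :: L, k => by simp [forceList, hf, forceList_eq f hf L]

def forceAl (al : List (List Box)) (k : List (List Box) → Bool) : Bool :=
  forceList (forceList forceBounds) al k

theorem forceAl_eq (al : List (List Box)) (k : List (List Box) → Bool) : forceAl al k = k al :=
  forceList_eq _ (fun b k => forceList_eq _ forceBounds_eq b k) al k

def forceFull (al : List (List Box)) (k : List (List Box) → Bool) : Bool :=
  forceList (forceList forceBox) al k

theorem forceFull_eq (al : List (List Box)) (k : List (List Box) → Bool) : forceFull al k = k al :=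
  forceList_eq _ (fun b k => forceList_eq _ forceBox_eq b k) al k

def forceNs {α : Type} (L : List ℕ) (k : List ℕ → α) : α := forceList forceN L k

theorem forceNs_eq {α : Type} (L : List ℕ) (k : List ℕ → α) : forceNs L k = k L :=
  forceList_eq _ forceN_eq L k

/-- `List.set`, passing the result to a function. -/
def setK {β α : Type} : List β → ℕ → β → (List β → α) → α
  | [], _, _, k => k []
  | _ :: L, 0, b, k => k (b :: L)
  | a :: L, n + 1, b, k => setK L n b fun L => k (a :: L)

theorem setK_eq {β α : Type} : ∀ (L : List β) (n : ℕ) (b : β) (k : List β → α), setK L n b k = k (L.set n b)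
  | [], _, _, _ => rfl
  | _ :: _, 0, _, _ => rfl
  | a :: L, n + 1, b, k => by simp [setK, setK_eq L]

/-- Branch and bound. -/
def go (glo : ℕ) (ghi : Option ℕ) (dv : Option (List ℕ)) : ℕ → List (List Box) → Bool
  | 0, _ => false
  | n + 1, al =>
    killed glo ghi al ||
      forceN (chooseAux al 0 (0, -1)) fun j =>
        (forceList forceBounds (tightO dv (split (al.getD j [])).1) fun o => setK al j o (go glo ghi dv n)) &&
          forceList forceBounds (tightO dv (split (al.getD j [])).2) fun o => setK al j o (go glo ghi dv n)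

theorem go_sound {G : ℕ} {p : List (List ℤ × ℕ)} (hp : Meets G p) (glo : ℕ) (ghi : Option ℕ)
    (hlo : glo ≤ G) (hhi : ∀ g, ghi = some g → G ≤ g) (dv : Option (List ℕ))
    (hdv : ∀ ds, dv = some ds → ∀ q ∈ p, q.2 ∈ ds) :
    ∀ (n : ℕ) (al : List (List Box)), List.Forall₂ FitAlts al p → go glo ghi dv n al = false
  | 0, _, _ => rfl
  | n + 1, al, hf => by
    rw [go]
    simp only [killed_sound hp hf glo ghi hlo hhi, Bool.false_or, forceN_eq,
      forceList_eq _ forceBounds_eq, setK_eq, Bool.and_eq_false_iff]
    set j := chooseAux al 0 (0, -1)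
    have hset : ∀ o', (∀ q, p[j]? = some q → FitAlts o' q) → List.Forall₂ FitAlts (al.set j o') p := by
      intro o' ho'
      rw [List.forall₂_iff_get] at hf ⊢
      obtain ⟨hlen, hget⟩ := hf
      refine ⟨by simpa using hlen, fun i h1 h2 => ?_⟩
      simp only [List.get_eq_getElem]
      rw [List.getElem_set]
      split_ifs with e
      · subst e
        exact ho' _ (List.getElem?_eq_getElem h2)
      · exact hget i (by simpa using h1) h2
    by_cases hj : j < p.length
    · have hlen := hf.length_eq
      have hq : FitAlts (al.getD j []) p[j] := by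
        rw [List.getD_eq_getElem _ _ (by omega)]
        exact (List.forall₂_iff_get.mp hf).2 j (by omega) hj
      have hd : ∀ ds, dv = some ds → (p[j]).2 ∈ ds := fun ds e => hdv ds e _ (List.getElem_mem hj)
      rcases split_sound _ _ hq with h | h
      · left
        refine go_sound hp glo ghi hlo hhi dv hdv n _ (hset _ fun q e => ?_)
        rw [List.getElem?_eq_getElem hj, Option.some.injEq] at e
        exact e ▸ tightO_sound dv hd h
      · right
        refine go_sound hp glo ghi hlo hhi dv hdv n _ (hset _ fun q e => ?_)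
        rw [List.getElem?_eq_getElem hj, Option.some.injEq] at e
        exact e ▸ tightO_sound dv hd h
    · left
      refine go_sound hp glo ghi hlo hhi dv hdv n _ (hset _ fun q e => ?_)
      rw [List.getElem?_eq_none (by omega)] at e
      simp at e

/-- The initial boxes of a configuration. -/
def start (L : List (List ℤ)) : List (List Box) :=
  L.map fun v => [v, v.map Neg.neg].map fun w =>
    { v := w, ks := wts.map (fun u => u.1 * t1Of w + u.2 * t2Of w),
      rs := rels2.map (fun s => s.2.2 * dotSel s.1 w), wd := 5 * |t1Of w| + |t2Of w| + 1,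
      r := resOf w, lo := up (max (lbOf w).toNat 1) (resOf w), hi := none }

/-- The degrees allowed for a given order. -/
def divs (G : ℕ) : List ℕ := (List.range 450).filter fun d => decide (0 < d) && decide (G % d = 0) && decide (d * d ≤ G)

end CfsgLib.AEightLocal
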