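import Cfsg.Agent.Lib.AEightLocal.Bound

/-!
Certificate for orders at least 200000.
-/

set_option autoImplicit false

namespace CfsgLib.AEightLocal

set_option maxHeartbeats 0 in
theorem check_large : (known.all fun L => forceFull (start L) fun al => go 200000 none none 80 al) = true := by
  decide +kernel

end CfsgLib.AEightLocal
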