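import Cfsg.Agent.Lib.AEightLocal.Bound

/-!
Certificate for the orders `23400 + 3240 k` below 200000.
-/

set_option autoImplicit false

namespace CfsgLib.AEightLocal

set_option maxHeartbeats 0 in
theorem check_small : ((List.range 55).all fun k =>
    forceNs (divs (23400 + 3240 * k)) fun ds => known.all fun L =>
      forceFull ((start L).map (tightO (some ds))) fun al =>
      go (23400 + 3240 * k) (some (23400 + 3240 * k)) (some ds) 80 al) = true := by
  decide +kernel

end CfsgLib.AEightLocal
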