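import Cfsg.Agent.Lib.AEightLocal.Local
import Mathlib

/-!
The classes of elements whose three-part is conjugate into the Sylow subgroup.
-/

set_option autoImplicit false

namespace CfsgLib.AEightLocal

open CfsgLib.Invol

universe u

variable {G : Type u} [Group G] {Φ : L360 →* G} {w : G}

theorem ce_pow : (mc * me) ^ 10 = mc * me ∧ (mc * me) ^ 3 = 1 ∧ mc * me ≠ 1 := by decide +kernel

theorem mc_not_inD_conj : InD mc ∧ InD me ∧ InD (mc * me) ∧ IsY (mc * me) ∧ ¬ IsY mc ∧ ¬ IsY me := by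
  decide +kernel

theorem inD_swap_fixed : (Finset.univ.filter fun p : Fin 3 × Fin 3 =>
    mc ^ p.2.val * me ^ p.1.val = mc ^ p.1.val * me ^ p.2.val).card = 3 := by decide +kernel

theorem inD_cube : ∀ x : L360, InD x → x ^ 3 = 1 := fun _ h => h.2.2

theorem inD_one : InD (1 : L360) := by decide +kernel

theorem inD_mul : ∀ x : L360, InD x → ∀ y : L360, InD y → InD (x * y) := by decide +kernel

theorem inD_inv : ∀ x : L360, InD x → InD x⁻¹ := by decide +kernel

theorem ce_conj_inv : mtz * mtu * (mc * me) * (mtz * mtu)⁻¹ = (mc * me)⁻¹ ∧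
    mtz * mc * mtz⁻¹ = mc⁻¹ := by decide +kernel

theorem mc_inv_ne : mc⁻¹ ≠ mc ∧ mc⁻¹ ≠ 1 := by decide +kernel

namespace Loc

variable (h : Loc Φ w)
include h

theorem w_inv : w⁻¹ = w := inv_eq_of_mul_eq_one_right h.w_sq

theorem ww_mul (p q : G) : w * (p * q) * w = w * p * w * (w * q * w) := by
  have e : w * p * w * (w * q * w) = w * p * (w * w) * q * w := by group
  rw [e, h.w_sq]; group

theorem w_w (p : G) : w * (w * p * w) * w = p := by
  have e : w * (w * p * w) * w = w * w * p * (w * w) := by group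
  rw [e, h.w_sq]; simp

theorem w_e : w * Φ me * w = Φ mc := by rw [← h.w_c, h.w_w]

theorem w_tu : w * Φ mtu * w = Φ mtz := by rw [← h.w_tz, h.w_w]

theorem w_pow (p : G) : ∀ n : ℕ, w * p ^ n * w = (w * p * w) ^ n
  | 0 => by simp [h.w_sq]
  | n + 1 => by rw [pow_succ, h.ww_mul, w_pow p n, pow_succ]

theorem w_D (i j : Fin 3) :
    w * Φ (mc ^ i.val * me ^ j.val) * w = Φ (mc ^ j.val * me ^ i.val) := by
  rw [map_mul, map_pow, map_pow, h.ww_mul, h.w_pow, h.w_pow, h.w_c, h.w_e, ← map_pow, ← map_pow,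
    ← map_mul]
  exact congrArg Φ ((show Commute mc me from tz_facts.2.2.2.2.2.2.2).pow_pow _ _).symm.eq

theorem w_ce : w * Φ (mc * me) = Φ (mc * me) * w := by
  have e := h.w_D 1 1
  simp only [Fin.val_one, pow_one] at e
  calc w * Φ (mc * me) = w * Φ (mc * me) * (w * w) := by rw [h.w_sq, mul_one]
    _ = w * Φ (mc * me) * w * w := by group
    _ = _ := by rw [e]

theorem w_ne_map (d : L360) : Φ d ≠ w := by
  intro e
  have hc : w * Φ mc * w⁻¹ = Φ me := by rw [h.w_inv, h.w_c]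
  rw [← e] at hc
  rw [conj_map_of_conj Φ rfl] at hc
  rcases conj_mc d with e2 | e2 <;> rw [e2] at hc <;> exact absurd (h.inj hc) (by decide)

theorem conj_c_e : IsConj (Φ mc) (Φ me) := isConj_iff.mpr ⟨w, by rw [h.w_inv, h.w_c]⟩

/-- Elements of order three of `L360` are conjugate to `z` or to `y`. -/
theorem conj_three (x : L360) (hx : x ^ 3 = 1) (hx1 : x ≠ 1) :
    (IsY x → IsConj (Φ (mc * me)) (Φ x)) ∧ (¬ IsY x → IsConj (Φ mc) (Φ x)) := by
  obtain ⟨a, ⟨hy, e⟩ | ⟨hy, e | e⟩⟩ := class_three x hx hx1 <;>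
    refine ⟨fun hY => ?_, fun hY => ?_⟩ <;> (try exact absurd hy hY) <;> (try exact absurd hY hy)
  · exact (isConj_iff.mpr ⟨Φ a, conj_map_of_conj Φ e⟩ : IsConj (Φ x) (Φ (mc * me))).symm
  · exact (isConj_iff.mpr ⟨Φ a, conj_map_of_conj Φ e⟩ : IsConj (Φ x) (Φ mc)).symm
  · exact h.conj_c_e.trans (isConj_iff.mpr ⟨Φ a, conj_map_of_conj Φ e⟩ : IsConj (Φ x) (Φ me)).symm

theorem mem_range_of_cz {k : Fin 4} {g : G} (hg : g * Φ (czr k) = Φ (czr k) * g) : g ∈ Φ.range := by
  refine h.cz g ?_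
  rw [← cz_pow k, map_pow]
  exact (Commute.pow_right (show Commute g (Φ (czr k)) from hg) 10).eq

theorem card_cz (k : Fin 4) :
    Nat.card (Subgroup.centralizer ({Φ (czr k)} : Set G)) = ![180, 12, 15, 15] k := by
  rw [← cz_centralizer k, ← Fintype.card_subtype, ← Nat.card_eq_fintype_card]
  refine (Nat.card_eq_of_bijective
    (fun a : {a : L360 // a * czr k = czr k * a} => (⟨Φ a.1, Subgroup.mem_centralizer_singleton_iff.mpr
      (by rw [← map_mul, ← map_mul, a.2])⟩ : Subgroup.centralizer ({Φ (czr k)} : Set G))) ⟨?_, ?_⟩).symm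
  · exact fun a b e => Subtype.ext (h.inj (congrArg Subtype.val e))
  · rintro ⟨g, hg⟩
    rw [Subgroup.mem_centralizer_singleton_iff] at hg
    obtain ⟨a, rfl⟩ := h.mem_range_of_cz hg
    exact ⟨⟨a, h.inj (by rw [map_mul, map_mul]; exact hg)⟩, rfl⟩

theorem card_z : Nat.card (Subgroup.centralizer ({Φ mc} : Set G)) = 180 := h.card_cz 0

theorem card_y : Nat.card (Subgroup.centralizer ({Φ (mc * me)} : Set G)) = 18 := by
  have h9 : Nat.card {d : L360 // InD d} = 9 := by
    rw [Nat.card_eq_fintype_card, Fintype.card_subtype, inD_card]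
  let f : {d : L360 // InD d} × Bool → Subgroup.centralizer ({Φ (mc * me)} : Set G) := fun p =>
    ⟨if p.2 then Φ p.1.1 * w else Φ p.1.1, by
      have h0 : Φ p.1.1 * Φ (mc * me) = Φ (mc * me) * Φ p.1.1 := by
        rw [← map_mul, ← map_mul]
        refine congrArg Φ ?_
        obtain ⟨⟨d, hd1, hd2, -⟩, -⟩ := p
        exact ((show Commute d mc from hd1).mul_right hd2).eq
      rw [Subgroup.mem_centralizer_singleton_iff]
      split
      · rw [mul_assoc, h.w_ce, ← mul_assoc, h0, mul_assoc]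
      · exact h0⟩
  have hf : Function.Bijective f := by
    refine ⟨?_, ?_⟩
    · rintro ⟨⟨d, hd⟩, b⟩ ⟨⟨d', hd'⟩, b'⟩ e
      have e' := congrArg Subtype.val e
      have key : ∀ p q : L360, Φ p * w ≠ Φ q := fun p q e1 =>
        h.w_ne_map (p⁻¹ * q) (by rw [map_mul, map_inv, ← e1, inv_mul_cancel_left])
      cases b <;> cases b' <;> simp [f] at e' ⊢
      · exact h.inj e'
      · exact absurd e'.symm (key _ _)
      · exact absurd e' (key _ _)
      · exact h.inj e'
    · rintro ⟨g, hg⟩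
      rw [Subgroup.mem_centralizer_singleton_iff] at hg
      obtain ⟨d, hd, e | e⟩ := h.cy g hg
      · exact ⟨(⟨d, hd⟩, false), Subtype.ext (by simp [f, e])⟩
      · exact ⟨(⟨d, hd⟩, true), Subtype.ext (by simp [f, e])⟩
  rw [← Nat.card_eq_of_bijective f hf, Nat.card_prod, h9, Nat.card_eq_fintype_card, Fintype.card_bool]

theorem not_conj_zy : ¬ IsConj (Φ mc) (Φ (mc * me)) := fun e => by
  have := card_centralizer_of_isConj e
  rw [h.card_y, h.card_z] at this
  omega

/-- The elements of order three commuting with `y`. -/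
theorem three_comm_y {r : G} (hr : r ^ 3 = 1) (hc : r * Φ (mc * me) = Φ (mc * me) * r) :
    ∃ d, InD d ∧ r = Φ d := by
  obtain ⟨d, hd, e | e⟩ := h.cy r hc
  · exact ⟨d, hd, e⟩
  · exfalso
    obtain ⟨i, j, rfl⟩ := (inD_iff d).mp hd
    subst e
    have e2 : (Φ (mc ^ i.val * me ^ j.val) * w) ^ 3 =
        Φ (mc ^ i.val * me ^ j.val) * (w * Φ (mc ^ i.val * me ^ j.val) * w) *
          Φ (mc ^ i.val * me ^ j.val) * w := by
      simp only [pow_succ, pow_zero, one_mul, mul_assoc]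
    rw [h.w_D, ← map_mul, ← map_mul] at e2
    rw [e2] at hr
    exact h.w_ne_map _ (by rw [map_inv]; exact inv_eq_of_mul_eq_one_right hr)

end Loc

/-- Representatives of the six classes met by the centralizers of `z` and `y`, outside the rest. -/
def cls (Φ : L360 →* G) (w : G) : Fin 6 → G :=
  ![Φ (czr 0), Φ (czr 1), Φ (mc * me), Φ (mc * me) * w, Φ (czr 2), Φ (czr 3)]

/-- The three-parts. -/
def part (Φ : L360 →* G) : Fin 6 → G := ![Φ mc, Φ mc, Φ (mc * me), Φ (mc * me), Φ mc, Φ mc]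

namespace Loc

variable (h : Loc Φ w)
include h

theorem cls_pow (k : Fin 6) : cls Φ w k ^ 10 = part Φ k := by
  fin_cases k
  · show Φ (czr 0) ^ 10 = Φ mc
    rw [← map_pow, cz_pow]
  · show Φ (czr 1) ^ 10 = Φ mc
    rw [← map_pow, cz_pow]
  · show Φ (mc * me) ^ 10 = Φ (mc * me)
    rw [← map_pow, ce_pow.1]
  · show (Φ (mc * me) * w) ^ 10 = Φ (mc * me)
    rw [(show Commute (Φ (mc * me)) w from h.w_ce.symm).mul_pow, ← map_pow, ce_pow.1,
      show 10 = 2 * 5 from rfl, pow_mul, pow_two, h.w_sq, one_pow, mul_one]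
  · show Φ (czr 2) ^ 10 = Φ mc
    rw [← map_pow, cz_pow]
  · show Φ (czr 3) ^ 10 = Φ mc
    rw [← map_pow, cz_pow]

theorem card_yw : Nat.card (Subgroup.centralizer ({Φ (mc * me) * w} : Set G)) = 6 := by
  have h3 : Nat.card {p : Fin 3 × Fin 3 //
      mc ^ p.2.val * me ^ p.1.val = mc ^ p.1.val * me ^ p.2.val} = 3 := by
    rw [Nat.card_eq_fintype_card, Fintype.card_subtype, inD_swap_fixed]
  set y := Φ (mc * me) with hy
  have hcomm : ∀ p : {p : Fin 3 × Fin 3 //
      mc ^ p.2.val * me ^ p.1.val = mc ^ p.1.val * me ^ p.2.val},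
      Commute (Φ (mc ^ p.1.1.val * me ^ p.1.2.val)) w ∧ Commute (Φ (mc ^ p.1.1.val * me ^ p.1.2.val)) y := by
    rintro ⟨⟨i, j⟩, hp⟩
    refine ⟨?_, ?_⟩
    · have e : w * Φ (mc ^ i.val * me ^ j.val) * w = Φ (mc ^ i.val * me ^ j.val) := by rw [h.w_D, hp]
      show Φ (mc ^ i.val * me ^ j.val) * w = w * Φ (mc ^ i.val * me ^ j.val)
      calc Φ (mc ^ i.val * me ^ j.val) * w = w * Φ (mc ^ i.val * me ^ j.val) * w * w := by rw [e]
        _ = w * Φ (mc ^ i.val * me ^ j.val) * (w * w) := by group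
        _ = _ := by rw [h.w_sq, mul_one]
    · have hce : Commute mc me := tz_facts.2.2.2.2.2.2.2
      exact (((Commute.refl mc).pow_left _).mul_left (hce.symm.pow_left _) |>.mul_right
        ((hce.pow_left _).mul_left ((Commute.refl me).pow_left _))).map Φ
  let f : {p : Fin 3 × Fin 3 // mc ^ p.2.val * me ^ p.1.val = mc ^ p.1.val * me ^ p.2.val} × Bool →
      Subgroup.centralizer ({y * w} : Set G) := fun q =>
    ⟨if q.2 then Φ (mc ^ q.1.1.1.val * me ^ q.1.1.2.val) * w else Φ (mc ^ q.1.1.1.val * me ^ q.1.1.2.val), by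
      rw [Subgroup.mem_centralizer_singleton_iff]
      obtain ⟨hw, hy'⟩ := hcomm q.1
      split
      · exact (((hy'.mul_left (show Commute w y from h.w_ce)).mul_right
          (hw.mul_left (Commute.refl w)))).eq
      · exact (hy'.mul_right hw).eq⟩
  have hf : Function.Bijective f := by
    refine ⟨?_, ?_⟩
    · rintro ⟨⟨⟨i, j⟩, hp⟩, b⟩ ⟨⟨⟨i', j'⟩, hp'⟩, b'⟩ e
      have e' := congrArg Subtype.val e
      have key : ∀ p q : L360, Φ p * w ≠ Φ q := fun p q e1 =>
        h.w_ne_map (p⁻¹ * q) (by rw [map_mul, map_inv, ← e1, inv_mul_cancel_left])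
      cases b <;> cases b' <;> simp only [f, Bool.false_eq_true, if_false, if_true] at e'
      · obtain ⟨rfl, rfl⟩ := inD_inj _ _ _ _ (h.inj e'); rfl
      · exact absurd e'.symm (key _ _)
      · exact absurd e' (key _ _)
      · obtain ⟨rfl, rfl⟩ := inD_inj _ _ _ _ (h.inj (mul_right_cancel e')); rfl
    · rintro ⟨g, hg⟩
      rw [Subgroup.mem_centralizer_singleton_iff] at hg
      have hgy : Commute g y := by
        have e := (show Commute g (y * w) from hg).pow_right 10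
        have e2 := h.cls_pow 3
        simp only [cls, part, Matrix.cons_val] at e2
        rwa [e2] at e
      have hgw : Commute g w := by
        have := (hgy.inv_right).mul_right (show Commute g (y * w) from hg)
        rwa [inv_mul_cancel_left] at this
      obtain ⟨d, hd, hde⟩ := h.cy g hgy
      obtain ⟨i, j, rfl⟩ := (inD_iff d).mp hd
      have hfix : Commute (Φ (mc ^ i.val * me ^ j.val)) w := by
        rcases hde with rfl | rfl
        · exact hgw
        · have := hgw.mul_left (Commute.refl w)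
          rwa [mul_assoc, h.w_sq, mul_one] at this
      have hp : mc ^ j.val * me ^ i.val = mc ^ i.val * me ^ j.val := h.inj (by
        rw [← h.w_D, ← hfix.eq, mul_assoc, h.w_sq, mul_one])
      rcases hde with e | e
      · exact ⟨(⟨(i, j), hp⟩, false), Subtype.ext (by simp [f, e])⟩
      · exact ⟨(⟨(i, j), hp⟩, true), Subtype.ext (by simp [f, e])⟩
  rw [← Nat.card_eq_of_bijective f hf, Nat.card_prod, h3, Nat.card_eq_fintype_card, Fintype.card_bool]

theorem card_cls (k : Fin 6) :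
    Nat.card (Subgroup.centralizer ({cls Φ w k} : Set G)) = ![180, 12, 18, 6, 15, 15] k := by
  fin_cases k
  · exact h.card_cz 0
  · exact h.card_cz 1
  · exact h.card_y
  · exact h.card_yw
  · exact h.card_cz 2
  · exact h.card_cz 3

theorem cls_not_conj {k l : Fin 6} (hne : k ≠ l) : ¬ IsConj (cls Φ w k) (cls Φ w l) := by
  intro hc
  have hp : IsConj (part Φ k) (part Φ l) := by
    rw [← h.cls_pow k, ← h.cls_pow l]
    obtain ⟨g, hg⟩ := isConj_iff.mp hc
    exact isConj_iff.mpr ⟨g, by rw [← conj_pow, hg]⟩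
  have hzz : ∀ a b : Fin 4, a ≠ b → ¬ IsConj (Φ (czr a)) (Φ (czr b)) := by
    intro a b hab e
    obtain ⟨g, hg⟩ := isConj_iff.mp e
    have e10 : g * Φ mc * g⁻¹ = Φ mc := by
      calc g * Φ mc * g⁻¹ = g * Φ (czr a) ^ 10 * g⁻¹ := by rw [← map_pow, cz_pow]
        _ = Φ (czr b) ^ 10 := by rw [← conj_pow, hg]
        _ = Φ mc := by rw [← map_pow, cz_pow]
    obtain ⟨x, rfl⟩ := h.cz g (mul_inv_eq_iff_eq_mul.mp e10)
    rw [conj_map_of_conj Φ rfl] at hg e10
    exact cz_not_conj x a b hab (mul_inv_eq_iff_eq_mul.mp (h.inj e10)) (h.inj hg)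
  have hyy : ¬ IsConj (Φ (mc * me)) (Φ (mc * me) * w) := by
    intro e
    obtain ⟨g, hg⟩ := isConj_iff.mp e
    have : (g * Φ (mc * me) * g⁻¹) ^ 3 = 1 := by rw [conj_pow, ← map_pow, ce_pow.2.1]; simp
    rw [hg, (show Commute (Φ (mc * me)) w from h.w_ce.symm).mul_pow, ← map_pow, ce_pow.2.1, map_one, one_mul,
      pow_succ, pow_two, h.w_sq, one_mul] at this
    exact h.w_ne_map 1 (by rw [map_one, this])
  have hzy := h.not_conj_zy
  have hcase : ∀ i : Fin 6, (∃ a : Fin 4, i = ![0, 1, 4, 5] a) ∨ i = 2 ∨ i = 3 := by decide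
  have hcls : ∀ a : Fin 4, cls Φ w (![0, 1, 4, 5] a) = Φ (czr a) ∧ part Φ (![0, 1, 4, 5] a) = Φ mc := by
    intro a; fin_cases a <;> exact ⟨rfl, rfl⟩
  have h23 : part Φ 2 = Φ (mc * me) ∧ part Φ 3 = Φ (mc * me) ∧ cls Φ w 2 = Φ (mc * me) ∧
      cls Φ w 3 = Φ (mc * me) * w := ⟨rfl, rfl, rfl, rfl⟩
  rcases hcase k with ⟨a, rfl⟩ | rfl | rfl <;> rcases hcase l with ⟨b, rfl⟩ | rfl | rfl
  · rw [(hcls a).1, (hcls b).1] at hc
    exact hzz a b (fun e => hne (by rw [e])) hc
  · rw [(hcls a).2, h23.1] at hp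
    exact hzy hp
  · rw [(hcls a).2, h23.2.1] at hp
    exact hzy hp
  · rw [(hcls b).2, h23.1] at hp
    exact hzy hp.symm
  · exact hne rfl
  · rw [h23.2.2.1, h23.2.2.2] at hc
    exact hyy hc
  · rw [(hcls b).2, h23.2.1] at hp
    exact hzy hp.symm
  · rw [h23.2.2.1, h23.2.2.2] at hc
    exact hyy hc.symm
  · exact hne rfl

theorem cls_inv (k : Fin 6) : IsConj (cls Φ w (![0, 1, 2, 3, 5, 4] k)) (cls Φ w k)⁻¹ := by
  have hz : ∀ a : Fin 4, IsConj (Φ (czr (![0, 1, 3, 2] a))) (Φ (czr a))⁻¹ := by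
    intro a
    have hinv : (![0, 1, 3, 2] : Fin 4 → Fin 4) (![0, 1, 3, 2] a) = a := by fin_cases a <;> rfl
    obtain ⟨x, hx⟩ := cz_inv (![0, 1, 3, 2] a)
    rw [hinv] at hx
    refine isConj_iff.mpr ⟨Φ x, ?_⟩
    rw [conj_map_of_conj Φ hx, map_inv]
  fin_cases k
  · exact hz 0
  · exact hz 1
  · exact isConj_iff.mpr ⟨Φ (mtz * mtu), by
      show Φ (mtz * mtu) * Φ (mc * me) * (Φ (mtz * mtu))⁻¹ = (Φ (mc * me))⁻¹
      rw [conj_map_of_conj Φ ce_conj_inv.1, map_inv]⟩
  · refine isConj_iff.mpr ⟨Φ (mtz * mtu), ?_⟩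
    show Φ (mtz * mtu) * (Φ (mc * me) * w) * (Φ (mtz * mtu))⁻¹ = (Φ (mc * me) * w)⁻¹
    have ht : Commute w (Φ (mtz * mtu)) := by
      have e : w * Φ (mtz * mtu) * w = Φ (mtz * mtu) := by
        rw [map_mul, h.ww_mul, h.w_tz, h.w_tu, ← map_mul, ← map_mul, tz_facts.2.2.2.2.2.2.1]
      show w * Φ (mtz * mtu) = Φ (mtz * mtu) * w
      calc w * Φ (mtz * mtu) = w * Φ (mtz * mtu) * (w * w) := by rw [h.w_sq, mul_one]
        _ = w * Φ (mtz * mtu) * w * w := by group
        _ = _ := by rw [e]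
    calc Φ (mtz * mtu) * (Φ (mc * me) * w) * (Φ (mtz * mtu))⁻¹
        = Φ (mtz * mtu) * Φ (mc * me) * (w * (Φ (mtz * mtu))⁻¹) := by group
      _ = Φ (mtz * mtu) * Φ (mc * me) * ((Φ (mtz * mtu))⁻¹ * w) := by rw [ht.inv_right.eq]
      _ = Φ (mtz * mtu) * Φ (mc * me) * (Φ (mtz * mtu))⁻¹ * w := by group
      _ = _ := by
        rw [conj_map_of_conj Φ ce_conj_inv.1, map_inv, mul_inv_rev, h.w_inv]
        exact ((show Commute w (Φ (mc * me)) from h.w_ce).inv_right).eq.symm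
  · exact hz 2
  · exact hz 3

theorem cls_ne_one (k : Fin 6) : cls Φ w k ≠ 1 := by
  intro e
  have h1 := h.cls_pow k
  rw [e, one_pow] at h1
  fin_cases k <;> simp only [part, Matrix.cons_val] at h1 <;> first
    | exact mc_mc.2 (h.inj (by rw [map_one]; exact h1.symm))
    | exact ce_pow.2.2 (h.inj (by rw [map_one]; exact h1.symm))

end Loc

end CfsgLib.AEightLocal
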