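import Cfsg.Agent.Lib.AEightLocal.BoundLarge
import Cfsg.Agent.Lib.AEightLocal.BoundSmall

/-!
The degree equations have no solution for a group of order at least 21960.
-/

set_option autoImplicit false

namespace CfsgLib.AEightLocal

/-- No configuration solves the equations for a large order. -/
theorem no_large {G : ℕ} {L : List (List ℤ)} (hL : L ∈ known) {p : List (List ℤ × ℕ)}
    (hp : Meets G p)
    (hf : List.Forall₂ (fun v q => (q.1 = v ∨ q.1 = v.map Neg.neg) ∧ lbOf q.1 ≤ (q.2 : ℤ) ∧
      q.2 % 9 = resOf q.1 ∧ 0 < q.2) L p)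
    (hG : G % 3240 = 720) : G < 21960 := by
  by_contra hbig
  have hs : List.Forall₂ FitAlts (start L) p := by
    rw [start, List.forall₂_map_left_iff]
    refine hf.imp fun v q ⟨hv, hlb, hr, hpos⟩ => ?_
    refine ⟨_, List.mem_map.mpr ⟨q.1, ?_, rfl⟩, ⟨rfl, rfl⟩, rfl, hr, up_le (max_le (by omega) hpos) hr, fun h e => by simp at e, hpos⟩
    rcases hv with h | h <;> simp [h]
  by_cases h2 : 200000 ≤ G
  · have := go_sound hp 200000 none h2 (fun g e => by simp at e) none (fun ds e => by simp at e) 80 _ hs
    have h1 := List.all_eq_true.mp check_large L hL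
    rw [forceFull_eq] at h1
    rw [h1] at this
    simp at this
  · obtain ⟨k, hk, rfl⟩ : ∃ k, k < 55 ∧ G = 23400 + 3240 * k :=
      ⟨(G - 23400) / 3240, by omega, by omega⟩
    have hdv : ∀ ds, some (divs (23400 + 3240 * k)) = some ds → ∀ q ∈ p, q.2 ∈ ds := fun ds e q hq => by
        simp only [Option.some.injEq] at e
        subst e
        have h1 := hp.dvd q hq
        have h3 := hp.sq q hq
        have hpos : 0 < q.2 := Nat.pos_of_dvd_of_pos h1 (by omega)
        have h450 : q.2 < 450 := by
          by_contra hh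
          have := Nat.mul_le_mul (show 450 ≤ q.2 by omega) (show 450 ≤ q.2 by omega)
          omega
        simp only [divs, List.mem_filter, List.mem_range, Bool.and_eq_true, decide_eq_true_eq]
        exact ⟨h450, ⟨hpos, Nat.mod_eq_zero_of_dvd h1⟩, h3⟩
    have := go_sound hp _ (some (23400 + 3240 * k)) le_rfl (fun g e => by simp at e; omega)
      (some (divs (23400 + 3240 * k))) (fun ds e q hq => hdv ds e q hq) 80 _
      (List.forall₂_map_left_iff.mpr ((forall₂_mem_right hs).imp fun o q ⟨hq, ho⟩ =>
        tightO_sound (some (divs (23400 + 3240 * k))) (fun ds e => hdv ds e q hq) ho))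
    have h1 := List.all_eq_true.mp check_small k (List.mem_range.mpr hk)
    rw [forceNs_eq] at h1
    have h2 := List.all_eq_true.mp h1 L hL
    rw [forceFull_eq] at h2
    rw [h2] at this
    simp at this

end CfsgLib.AEightLocal
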