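import Mathlib

/-!
The coefficient vectors of the characters on the classes whose 3-part is conjugate into the
Sylow subgroup, for a group with the 3-local structure of `A₈`.

A coefficient vector is `[I, e, c₄, c₁, c₅, R]`.
-/

set_option autoImplicit false

namespace CfsgLib.AEightLocal

/-- Products of the rows, the trivial character removed. -/
def gram : List (List ℤ) :=
  [[2, 0, 0, 0, 0, 0], [0, 3, 2, 0, -2, 0], [0, 2, 4, 1, -1, 0], [0, 0, 1, 3, -1, 0],
    [0, -2, -1, -1, 4, 0], [0, 0, 0, 0, 0, 6]]

def gramAt (i j : ℕ) : ℤ := (gram.getD i []).getD j 0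

/-- The parity restriction on the last row. -/
def parOk (i : ℕ) (v a : ℤ) : Bool := i != 5 || (a - v) % 2 == 0

/-- Entries of a new row on the old columns. -/
def entries (i : ℕ) : List (List ℤ) → ℕ → List (List ℤ)
  | [], _ => [[]]
  | r :: L, b => [0, 1, -1, 2, -2].flatMap fun a : ℤ =>
      if a.natAbs * a.natAbs ≤ b && parOk i (r.getD 0 0) a then
        (entries i L (b - a.natAbs * a.natAbs)).map (a :: ·) else []

/-- Product of the new entries with row `j`. -/
def rowDot (L : List (List ℤ)) (e : List ℤ) (j : ℕ) : ℤ :=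
  ((L.zip e).map fun p => p.1.getD j 0 * p.2).sum

/-- New columns. -/
def newCols (i b : ℕ) : List (List ℤ) :=
  ([0, 1].flatMap fun k : ℕ =>
    if 4 * k ≤ b then [List.replicate k 2 ++ List.replicate (b - 4 * k) 1] else []).filter
    fun n => n.all (parOk i 0)

/-- A total order on vectors. -/
def lexLe : List ℤ → List ℤ → Bool
  | [], _ => true
  | _ :: _, [] => false
  | a :: L, b :: M => if a < b then true else if b < a then false else lexLe L M

def ins {α : Type*} (le : α → α → Bool) (a : α) : List α → List α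
  | [] => [a]
  | b :: L => if le a b then a :: b :: L else b :: ins le a L

def isort {α : Type*} (le : α → α → Bool) : List α → List α
  | [] => []
  | a :: L => ins le a (isort le L)

theorem ins_perm {α : Type*} (le : α → α → Bool) (a : α) : ∀ L, (ins le a L).Perm (a :: L)
  | [] => List.Perm.refl _
  | b :: L => by
    unfold ins
    split
    · exact List.Perm.refl _
    · exact ((ins_perm le a L).cons b).trans (List.Perm.swap a b L)

theorem isort_perm {α : Type*} (le : α → α → Bool) : ∀ L, (isort le L).Perm L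
  | [] => List.Perm.refl _
  | a :: L => (ins_perm le a _).trans ((isort_perm le L).cons a)

theorem map_ins {α β : Type*} (f : α → β) (le : β → β → Bool) (a : α) : ∀ L,
    (ins (fun x y => le (f x) (f y)) a L).map f = ins le (f a) (L.map f)
  | [] => rfl
  | b :: L => by
    simp only [ins, List.map_cons]
    split <;> simp [map_ins f le a L]

theorem map_isort {α β : Type*} (f : α → β) (le : β → β → Bool) : ∀ L,
    (isort (fun x y => le (f x) (f y)) L).map f = isort le (L.map f)
  | [] => rfl
  | a :: L => by simp only [isort, List.map_cons, map_ins, map_isort f le L]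

/-- All extensions by row `i`. -/
def step (i : ℕ) (L : List (List ℤ)) : List (List (List ℤ)) :=
  let b := (gramAt i i).natAbs
  ((entries i L b).filter fun e => decide (∀ j < i, rowDot L e j = gramAt i j)).flatMap fun e =>
    (newCols i (b - (e.map fun a => a.natAbs * a.natAbs).sum)).map fun n =>
      isort lexLe (((L.zip e).map fun p => p.1 ++ [p.2]) ++ n.map fun a => List.replicate i 0 ++ [a])

/-- All configurations after `i` rows, up to order. -/
def reach : ℕ → List (List (List ℤ))
  | 0 => [[]]
  | i + 1 => ((reach i).flatMap (step i)).dedup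

/-- The configurations, without the columns supported on the first and last row. -/
def configs : List (List (List ℤ)) :=
  (reach 6).map fun L => L.filter fun v => v.getD 1 0 != 0 || v.getD 2 0 != 0 || v.getD 3 0 != 0 || v.getD 4 0 != 0

/-- The six configurations. -/
def known : List (List (List ℤ)) :=
  [[[0, 0, 0, 0, 1, 0], [0, 0, 0, 1, -1, 0], [0, 0, 1, 0, 0, 0], [0, 0, 1, 0, 0, 0], [0, 1, 0, -1, -1, 0], [0, 1, 1, 0, 0, 0], [0, 1, 1, 1, -1, 0]],
    [[0, 0, 0, 0, 1, 0], [0, 0, 0, 1, 0, 0], [0, 0, 1, 0, 0, 0], [0, 0, 1, 0, 1, 0], [0, 1, 0, -1, 0, 0], [0, 1, 1, 0, -1, 0], [0, 1, 1, 1, -1, 0]],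
    [[0, 0, 0, 0, 1, 0], [0, 0, 0, 0, 1, 0], [0, 0, 1, 0, 0, 0], [0, 0, 1, 1, 0, 0], [0, 1, 0, 0, -1, 0], [0, 1, 1, -1, 0, 0], [0, 1, 1, 1, -1, 0]],
    [[0, 0, 0, 0, 1, 0], [0, 0, 0, 1, -1, 0], [0, 0, 0, 1, 0, 0], [0, 0, 1, 0, 0, 0], [0, 0, 1, 1, 0, 0], [0, 1, 0, 0, -1, 0], [0, 1, 1, 0, -1, 0], [0, 1, 1, 0, 0, 0]],
    [[0, 0, 0, 1, -1, 0], [0, 0, 0, 1, 0, 0], [0, 0, 1, 0, 1, 0], [0, 0, 1, 1, 0, 0], [0, 1, 0, 0, 0, 0], [0, 1, 1, 0, -1, 0], [0, 1, 1, 0, -1, 0]],
    [[0, 0, 0, 1, 0, 0], [0, 0, 0, 1, 0, 0], [0, 0, 1, 0, 1, 0], [0, 0, 1, 1, -1, 0], [0, 1, 0, 0, -1, 0], [0, 1, 1, 0, -1, 0], [0, 1, 1, 0, 0, 0]]]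

theorem configs_known : (configs.all fun L => decide (L ∈ known)) = true := by decide +kernel

variable {ι : Type*}

/-- The first `i` entries of a column. -/
def pre (c : ι → ℕ → ℤ) (i : ℕ) (χ : ι) : List ℤ := (List.range i).map (c χ)

theorem pre_getD (c : ι → ℕ → ℤ) {i j : ℕ} (h : j < i) (χ : ι) : (pre c i χ).getD j 0 = c χ j := by
  simp [pre, List.getD_eq_getElem?_getD, h]

theorem natAbs_le_two {a : ℤ} {b : ℕ} (hb : b ≤ 6) (h : a.natAbs * a.natAbs ≤ b) : a.natAbs ≤ 2 := by
  by_contra hh
  have := Nat.mul_le_mul (show 3 ≤ a.natAbs by omega) (show 3 ≤ a.natAbs by omega)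
  omega

theorem entries_mem (i : ℕ) : ∀ (L : List (List ℤ)) (e : List ℤ) (b : ℕ), b ≤ 6 → e.length = L.length →
    (e.map fun a => a.natAbs * a.natAbs).sum ≤ b →
    (∀ p ∈ L.zip e, parOk i (p.1.getD 0 0) p.2 = true) → e ∈ entries i L b
  | [], [], _, _, _, _, _ => by simp [entries]
  | [], _ :: _, _, _, h, _, _ => by simp at h
  | _ :: _, [], _, _, h, _, _ => by simp at h
  | r :: L, a :: e, b, hb, h, hs, hp => by
    simp only [List.map_cons, List.sum_cons] at hs
    have ha : a.natAbs ≤ 2 := natAbs_le_two hb (by omega)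
    simp only [entries, List.mem_flatMap]
    refine ⟨a, ?_, ?_⟩
    · simp only [List.mem_cons, List.not_mem_nil, or_false]; omega
    · have hp1 := hp (r, a) (by simp)
      rw [if_pos (by simp only [hp1, Bool.and_true, decide_eq_true_eq]; omega)]
      exact List.mem_map.mpr ⟨e, entries_mem i L e _ (by omega) (by simpa using h) (by omega)
        (fun p hp' => hp p (List.mem_cons_of_mem _ hp')), rfl⟩

/-- Columns, normalised to have a positive first non-zero entry, realise one of the configurations. -/
theorem exists_config [Fintype ι] (c : ι → ℕ → ℤ)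
    (hnorm : ∀ χ i, i < 6 → (∀ j < i, c χ j = 0) → 0 ≤ c χ i)
    (hgram : ∀ i < 6, ∀ j < 6, ∑ χ, c χ i * c χ j = gramAt i j)
    (hpar : ∀ χ, (c χ 5 - c χ 0) % 2 = 0) :
    ∃ l : List ι, l.Nodup ∧ (∀ χ, χ ∉ l → ∀ j, 1 ≤ j → j ≤ 4 → c χ j = 0) ∧ l.map (pre c 6) ∈ known := by
  classical
  have hsum : ∀ (l : List ι), l.Nodup → ∀ f : ι → ℤ, (∀ χ, χ ∉ l → f χ = 0) →
      (l.map f).sum = ∑ χ, f χ := fun l hl f hf => by
    rw [← List.sum_toFinset f hl]
    exact Finset.sum_subset (Finset.subset_univ _) fun χ _ h => hf χ (by simpa using h)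
  suffices key : ∀ i, i ≤ 6 → ∃ l : List ι, l.Nodup ∧ (∀ χ, χ ∉ l → ∀ j < i, c χ j = 0) ∧
      l.map (pre c i) ∈ reach i by
    obtain ⟨l, hl, hz, hm⟩ := key 6 le_rfl
    let q : List ℤ → Bool := fun v => v.getD 1 0 != 0 || v.getD 2 0 != 0 || v.getD 3 0 != 0 || v.getD 4 0 != 0
    refine ⟨l.filter (fun χ => q (pre c 6 χ)), hl.filter _, fun χ hχ j hj1 hj4 => ?_, ?_⟩
    · by_cases hm' : χ ∈ l
      · have : q (pre c 6 χ) = false := by
          by_contra hq
          exact hχ (List.mem_filter.mpr ⟨hm', by simpa using hq⟩)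
        simp only [q, Bool.or_eq_false_iff, bne_eq_false_iff_eq] at this
        obtain ⟨⟨⟨h1, h2⟩, h3⟩, h4⟩ := this
        rw [pre_getD c (by omega)] at h1 h2 h3 h4
        have : j = 1 ∨ j = 2 ∨ j = 3 ∨ j = 4 := by omega
        rcases this with rfl | rfl | rfl | rfl <;> assumption
      · exact hz χ hm' j (by omega)
    · have h := List.all_eq_true.mp configs_known ((l.map (pre c 6)).filter q) (List.mem_map.mpr ⟨_, hm, rfl⟩)
      rw [List.filter_map] at h
      exact of_decide_eq_true h
  intro i
  induction i with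
  | zero => exact fun _ => ⟨[], List.nodup_nil, fun _ _ j hj => absurd hj (by omega), by simp [reach]⟩
  | succ i ih =>
    intro hi
    obtain ⟨l, hl, hz, hm⟩ := ih (by omega)
    set S := Finset.univ.filter fun χ => χ ∉ l ∧ c χ i ≠ 0 with hS
    set new := (S.filter fun χ => c χ i = 2).toList ++ (S.filter fun χ => c χ i ≠ 2).toList with hnew
    have hnewmem : ∀ χ, χ ∈ new ↔ χ ∉ l ∧ c χ i ≠ 0 := fun χ => by
      simp only [hnew, List.mem_append, Finset.mem_toList, Finset.mem_filter, hS, Finset.mem_univ, true_and]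
      tauto
    have hnd' : new.Nodup := List.nodup_append'.mpr ⟨Finset.nodup_toList _, Finset.nodup_toList _,
      fun χ h1 h2 => (Finset.mem_filter.mp (Finset.mem_toList.mp h2)).2
        (Finset.mem_filter.mp (Finset.mem_toList.mp h1)).2⟩
    have hnd : (l ++ new).Nodup := List.nodup_append'.mpr ⟨hl, hnd',
      fun χ h1 h2 => ((hnewmem χ).mp h2).1 h1⟩
    have hz' : ∀ χ, χ ∉ l ++ new → ∀ j < i + 1, c χ j = 0 := by
      intro χ hχ j hj
      rw [List.mem_append, not_or] at hχ
      rcases Nat.lt_succ_iff_lt_or_eq.mp hj with h | rfl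
      · exact hz χ hχ.1 j h
      · by_contra hne
        exact hχ.2 ((hnewmem χ).mpr ⟨hχ.1, hne⟩)
    have hg6 : (gramAt i i).natAbs ≤ 6 := by
      have : ∀ i < 6, (gramAt i i).natAbs ≤ 6 := by decide
      exact this i (by omega)
    have hsq : ((l.map fun χ => (c χ i).natAbs * (c χ i).natAbs).sum +
        (new.map fun χ => (c χ i).natAbs * (c χ i).natAbs).sum) = (gramAt i i).natAbs := by
      have h := hsum (l ++ new) hnd (fun χ => c χ i * c χ i)
        (fun χ hχ => by rw [hz' χ hχ i (by omega)]; rfl)
      rw [hgram i (by omega) i (by omega)] at h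
      rw [← h, ← List.sum_append, ← List.map_append]
      generalize l ++ new = m
      induction m with
      | nil => simp
      | cons a m ihm =>
        have hh : (0 : ℤ) ≤ (m.map fun χ => c χ i * c χ i).sum := List.sum_nonneg fun x hx => by
          obtain ⟨y, -, rfl⟩ := List.mem_map.mp hx
          exact mul_self_nonneg _
        simp only [List.map_cons, List.sum_cons]
        rw [Int.natAbs_add_of_nonneg (mul_self_nonneg _) hh, Int.natAbs_mul, ihm]
    let le' : ι → ι → Bool := fun x y => lexLe (pre c (i + 1) x) (pre c (i + 1) y)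
    refine ⟨isort le' (l ++ new), (isort_perm _ _).nodup_iff.mpr hnd,
      fun χ hχ => hz' χ fun h => hχ ((isort_perm _ _).mem_iff.mpr h), ?_⟩
    rw [map_isort, reach, List.mem_dedup, List.mem_flatMap]
    refine ⟨_, hm, ?_⟩
    simp only [step, List.mem_flatMap]
    refine ⟨l.map (c · i), List.mem_filter.mpr ⟨?_, ?_⟩, ?_⟩
    · refine entries_mem _ _ _ _ hg6 (by simp) ?_ ?_
      · rw [List.map_map]
        exact le_of_le_of_eq (Nat.le_add_right _ _) hsq
      · intro p hp
        rw [List.zip_map, List.zip_eq_zipWith, List.zipWith_self, List.map_map] at hp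
        obtain ⟨χ, -, rfl⟩ := List.mem_map.mp hp
        by_cases h5 : i = 5
        · subst h5
          simp only [parOk, Function.comp_apply, Prod.map_apply, pre_getD c (show 0 < 5 by omega)]
          simp [hpar χ]
        · simp [parOk, h5]
    · refine decide_eq_true fun j hj => ?_
      have h := hsum l hl (fun χ => c χ j * c χ i) (fun χ hχ => by rw [hz χ hχ j hj, zero_mul])
      rw [show ∑ χ, c χ j * c χ i = ∑ χ, c χ i * c χ j from
        Finset.sum_congr rfl fun χ _ => mul_comm _ _, hgram i (by omega) j (by omega)] at h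
      rw [← h, rowDot, List.zip_map, List.map_map, List.zip_eq_zipWith, List.zipWith_self, List.map_map]
      congr 1
      refine List.map_congr_left fun χ _ => ?_
      simp only [Function.comp_apply, Prod.map_apply, pre_getD c hj]
    · refine List.mem_map.mpr ⟨new.map (c · i), ?_, ?_⟩
      · have hval : ∀ χ ∈ new, (c χ i = 1 ∨ c χ i = 2) ∧ (i = 5 → c χ i % 2 = 0) := by
          intro χ hχ
          obtain ⟨h1, h2⟩ := (hnewmem χ).mp hχ
          have h0 := hnorm χ i (by omega) (hz χ h1)
          have hle : (c χ i).natAbs * (c χ i).natAbs ≤ (gramAt i i).natAbs :=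
            hsq ▸ le_add_left (List.le_sum_of_mem (List.mem_map.mpr ⟨χ, hχ, rfl⟩))
          have := natAbs_le_two hg6 hle
          refine ⟨by omega, fun h5 => ?_⟩
          subst h5
          have := hpar χ
          rw [hz χ h1 0 (by omega), sub_zero] at this
          exact this
        have e1 : ((S.filter fun χ => c χ i = 2).toList).map (c · i) =
            List.replicate (S.filter fun χ => c χ i = 2).card 2 := by
          refine List.eq_replicate_iff.mpr ⟨by simp, fun a ha => ?_⟩
          obtain ⟨χ, hχ, rfl⟩ := List.mem_map.mp ha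
          exact (Finset.mem_filter.mp (Finset.mem_toList.mp hχ)).2
        have e2 : ((S.filter fun χ => c χ i ≠ 2).toList).map (c · i) =
            List.replicate (S.filter fun χ => c χ i ≠ 2).card 1 := by
          refine List.eq_replicate_iff.mpr ⟨by simp, fun a ha => ?_⟩
          obtain ⟨χ, hχ, rfl⟩ := List.mem_map.mp ha
          exact ((hval χ (List.mem_append_right _ hχ)).1).resolve_right
            (Finset.mem_filter.mp (Finset.mem_toList.mp hχ)).2
        have hnm : new.map (c · i) = List.replicate (S.filter fun χ => c χ i = 2).card 2 ++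
            List.replicate (S.filter fun χ => c χ i ≠ 2).card 1 := by
          rw [hnew, List.map_append, e1, e2]
        have hn4 : 4 * (S.filter fun χ => c χ i = 2).card + (S.filter fun χ => c χ i ≠ 2).card =
            (new.map fun χ => (c χ i).natAbs * (c χ i).natAbs).sum := by
          rw [show (new.map fun χ => (c χ i).natAbs * (c χ i).natAbs) =
            (new.map (c · i)).map fun a => a.natAbs * a.natAbs by rw [List.map_map]; rfl, hnm]
          simp
          ring
        refine List.mem_filter.mpr ⟨List.mem_flatMap.mpr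
          ⟨(S.filter fun χ => c χ i = 2).card, ?_, ?_⟩, List.all_eq_true.mpr fun a ha => ?_⟩
        · simp only [List.mem_cons, List.not_mem_nil, or_false]; omega
        · rw [List.map_map, hnm]
          simp only [Function.comp_def]
          rw [if_pos (by omega)]
          simp only [List.mem_singleton]
          congr 2
          omega
        · obtain ⟨χ, hχ, rfl⟩ := List.mem_map.mp ha
          by_cases h5 : i = 5
          · subst h5
            simp [parOk, (hval χ hχ).2 rfl]
          · simp [parOk, h5]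
      · congr 1
        rw [List.map_append, ← List.map_append (f := fun x => c x i), ← hnew, List.map_map, List.zip_map, List.map_map, List.zip_eq_zipWith,
          List.zipWith_self, List.map_map, List.map_append (f := pre c (i + 1))]
        congr 1
        · refine List.map_congr_left fun χ _ => ?_
          simp [pre, List.range_succ]
        · refine List.map_congr_left fun χ hχ => ?_
          obtain ⟨h1, -⟩ := (hnewmem χ).mp hχ
          simp only [Function.comp_apply, pre, List.range_succ, List.map_append, List.map_singleton]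
          congr 1
          refine (List.eq_replicate_iff.mpr ⟨by simp, ?_⟩).symm
          intro a ha
          obtain ⟨j, hj, rfl⟩ := List.mem_map.mp ha
          exact hz χ h1 j (List.mem_range.mp hj)

end CfsgLib.AEightLocal
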