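import Cfsg.Agent.Lib.AEightLocal.Triangle
import Mathlib

/-!
The congruence `|G| ≡ 720 (mod 3240)`: count the elements conjugating elements of the Sylow
subgroup into it.
-/

set_option autoImplicit false

namespace CfsgLib.AEightLocal

universe u

variable {G : Type u} [Group G] {Φ : L360 →* G} {w : G}

/-- The subgroup of order nine of `L360`. -/
def dL : Subgroup L360 where
  carrier := {x | InD x}
  one_mem' := inD_one
  mul_mem' hx hy := inD_mul _ hx _ hy
  inv_mem' hx := inD_inv _ hx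

/-- The Sylow subgroup. -/
def dSub (Φ : L360 →* G) : Subgroup G := dL.map Φ

theorem inD_kind_card : (Finset.univ.filter fun k : L360 => InD k ∧ k ≠ 1 ∧ IsY k).card = 4 ∧
    (Finset.univ.filter fun k : L360 => InD k ∧ k ≠ 1 ∧ ¬ IsY k).card = 4 := by decide +kernel

theorem mem_dSub {g : G} : g ∈ dSub Φ ↔ ∃ x, InD x ∧ Φ x = g := by
  simp only [dSub, Subgroup.mem_map]; rfl

namespace Loc

variable [Finite G] (h : Loc Φ w)
include h

omit [Finite G] in
theorem card_dSub : Nat.card (dSub Φ) = 9 := by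
  rw [dSub, Subgroup.card_map_of_injective h.inj]
  show Nat.card {x : L360 // InD x} = 9
  rw [Nat.card_eq_fintype_card, Fintype.card_subtype, inD_card]

theorem map_mem_normalizer {a : L360} (ha : InD (a * me * a⁻¹)) :
    Φ a ∈ Subgroup.normalizer (dSub Φ : Set G) := by
  refine mem_normalizer_of_conj _ fun g hg => ?_
  obtain ⟨x, hx, rfl⟩ := mem_dSub.mp hg
  exact mem_dSub.mpr ⟨a * x * a⁻¹, normD_conj a ha x hx, by rw [map_mul, map_mul, map_inv]⟩

theorem w_mem_normalizer : w ∈ Subgroup.normalizer (dSub Φ : Set G) := by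
  refine mem_normalizer_of_conj _ fun g hg => ?_
  obtain ⟨x, hx, rfl⟩ := mem_dSub.mp hg
  obtain ⟨i, j, rfl⟩ := (inD_iff x).mp hx
  exact mem_dSub.mpr ⟨mc ^ j.val * me ^ i.val, (inD_iff _).mpr ⟨j, i, rfl⟩, by rw [h.w_inv, h.w_D]⟩

theorem card_normalizer : Nat.card (Subgroup.normalizer (dSub Φ : Set G)) = 72 := by
  set N := Subgroup.normalizer (dSub Φ : Set G) with hN
  let f : {a : L360 // InD (a * me * a⁻¹)} × Bool → N := fun p =>
    ⟨if p.2 then Φ p.1.1 * w else Φ p.1.1, by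
      split
      · exact mul_mem (h.map_mem_normalizer p.1.2) h.w_mem_normalizer
      · exact h.map_mem_normalizer p.1.2⟩
  have hf : Function.Bijective f := by
    refine ⟨?_, ?_⟩
    · rintro ⟨⟨d, hd⟩, b⟩ ⟨⟨d', hd'⟩, b'⟩ e
      have e' := congrArg Subtype.val e
      have key : ∀ p q : L360, Φ p * w ≠ Φ q := fun p q e1 =>
        h.w_ne_map (p⁻¹ * q) (by rw [map_mul, map_inv, ← e1, inv_mul_cancel_left])
      cases b <;> cases b' <;> simp [f] at e' ⊢
      · exact h.inj e'
      · exact absurd e'.symm (key _ _)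
      · exact absurd e' (key _ _)
      · exact h.inj e'
    · rintro ⟨g, hg⟩
      obtain ⟨a, ha, e | e⟩ := h.normD g fun x hx => by
        obtain ⟨y, hy, e⟩ := mem_dSub.mp ((Subgroup.mem_normalizer_iff.mp hg _).mp (mem_dSub.mpr ⟨x, hx, rfl⟩))
        exact ⟨y, hy, e.symm⟩
      · exact ⟨(⟨a, ha⟩, false), Subtype.ext (by simp [f, e])⟩
      · exact ⟨(⟨a, ha⟩, true), Subtype.ext (by simp [f, e])⟩
  rw [← Nat.card_eq_of_bijective f hf, Nat.card_prod, Nat.card_eq_fintype_card, Fintype.card_subtype,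
    normD_card, Nat.card_eq_fintype_card, Fintype.card_bool]

theorem mem_of_normalizer {g : G} (hg : g ∈ Subgroup.normalizer (dSub Φ : Set G)) (h3 : g ^ 3 = 1) :
    g ∈ dSub Φ := by
  have hD : IsPGroup 3 (dSub Φ) := IsPGroup.of_card (n := 2) (by rw [h.card_dSub]; norm_num)
  obtain ⟨t, ht⟩ := h.syl _ ((isPGroup_zpowers h3).to_sup_of_normal_right' hD (Subgroup.zpowers_le.mpr hg))
  have hcomm : ∀ x, InD x → Commute g (Φ x) := fun x hx => by
    obtain ⟨d, hd, ed⟩ := ht g (Subgroup.mem_sup_left (Subgroup.mem_zpowers g))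
    obtain ⟨d', hd', ed'⟩ := ht (Φ x) (Subgroup.mem_sup_right (mem_dSub.mpr ⟨x, hx, rfl⟩))
    refine (Commute.conj_iff t).mp ?_
    rw [ed, ed']
    exact (show Commute d d' from inD_comm d hd d' hd').map Φ
  obtain ⟨x, rfl⟩ := h.cz g (hcomm mc mc_not_inD_conj.1).eq
  refine mem_dSub.mpr ⟨x, ⟨h.inj ?_, h.inj ?_, h.inj ?_⟩, rfl⟩
  · rw [map_mul, map_mul]; exact (hcomm mc mc_not_inD_conj.1).eq
  · rw [map_mul, map_mul]; exact (hcomm me mc_not_inD_conj.2.1).eq
  · rw [map_pow, h3, map_one]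

/-- The number of elements conjugating `Φ d` into the Sylow subgroup. -/
theorem card_into {d : L360} (hd : InD d) :
    Nat.card {g : G // g⁻¹ * Φ d * g ∈ dSub Φ} =
      if d = 1 then Nat.card G else if IsY d then 72 else 720 := by
  classical
  by_cases hd1 : d = 1
  · rw [if_pos hd1]
    exact Nat.card_congr (Equiv.subtypeUnivEquiv fun g => by
      subst hd1; simp [(dSub Φ).one_mem])
  rw [if_neg hd1]
  have hd3 : d ^ 3 = 1 := hd.2.2
  have hcent : Nat.card (Subgroup.centralizer ({Φ d} : Set G)) = if IsY d then 18 else 180 := by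
    split_ifs with hY
    · rw [CfsgLib.Invol.card_centralizer_of_isConj ((h.conj_three d hd3 hd1).1 hY), h.card_y]
    · rw [CfsgLib.Invol.card_centralizer_of_isConj ((h.conj_three d hd3 hd1).2 hY), h.card_z]
  let e : {g : G // g⁻¹ * Φ d * g ∈ dSub Φ} ≃
      (Σ k : {k : L360 // InD k ∧ k ≠ 1 ∧ (IsY k ↔ IsY d)}, {g : G // g⁻¹ * Φ d * g = Φ k.1}) :=
    { toFun := fun g =>
        ⟨⟨(mem_dSub.mp g.2).choose, (mem_dSub.mp g.2).choose_spec.1, by
          have e := (mem_dSub.mp g.2).choose_spec.2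
          have hk3 := inD_cube _ (mem_dSub.mp g.2).choose_spec.1
          generalize (mem_dSub.mp g.2).choose = k at e hk3 ⊢
          have hk1 : k ≠ 1 := fun hk => hd1 (h.inj (by
            rw [map_one]
            calc Φ d = g.1 * (g.1⁻¹ * Φ d * g.1) * g.1⁻¹ := by group
              _ = 1 := by rw [← e, hk, map_one]; group))
          refine ⟨hk1, ?_⟩
          have hconj : IsConj (Φ k) (Φ d) := isConj_iff.mpr ⟨g.1, by rw [e]; group⟩
          rw [h.isY_iff hd3 hd1, h.isY_iff hk3 hk1]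
          exact ⟨fun hh => hh.trans hconj, fun hh => hh.trans hconj.symm⟩⟩,
          ⟨g.1, (mem_dSub.mp g.2).choose_spec.2.symm⟩⟩
      invFun := fun p => ⟨p.2.1, mem_dSub.mpr ⟨p.1.1, p.1.2.1, p.2.2.symm⟩⟩
      left_inv := fun g => rfl
      right_inv := fun p => by
        obtain ⟨⟨k, hk⟩, ⟨g, hg⟩⟩ := p
        have hex := mem_dSub.mp (mem_dSub.mpr ⟨k, hk.1, hg.symm⟩ : g⁻¹ * Φ d * g ∈ dSub Φ)
        have hkk : hex.choose = k := h.inj (hex.choose_spec.2.trans hg)
        exact Sigma.subtype_ext (Subtype.ext hkk) rfl }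
  haveI : Fintype {k : L360 // InD k ∧ k ≠ 1 ∧ (IsY k ↔ IsY d)} := Subtype.fintype _
  rw [Nat.card_congr e, Nat.card_sigma]
  have hfib : ∀ k : {k : L360 // InD k ∧ k ≠ 1 ∧ (IsY k ↔ IsY d)},
      Nat.card {g : G // g⁻¹ * Φ d * g = Φ k.1} = Nat.card (Subgroup.centralizer ({Φ d} : Set G)) := by
    rintro ⟨k, hk, hk1, hkY⟩
    have hc : IsConj (Φ k) (Φ d) := by
      by_cases hY : IsY d
      · exact ((h.conj_three k hk.2.2 hk1).1 (hkY.mpr hY)).symm.trans ((h.conj_three d hd3 hd1).1 hY)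
      · exact ((h.conj_three k hk.2.2 hk1).2 (fun hh => hY (hkY.mp hh))).symm.trans
          ((h.conj_three d hd3 hd1).2 hY)
    obtain ⟨g0, hg0⟩ := isConj_iff.mp hc
    refine Nat.card_congr (Equiv.subtypeEquiv (Equiv.mulRight g0⁻¹) fun g => ?_)
    simp only [Equiv.coe_mulRight, Subgroup.mem_centralizer_singleton_iff]
    constructor
    · intro e
      calc g * g0⁻¹ * Φ d = g * g0⁻¹ * (g0 * Φ k * g0⁻¹) := by rw [hg0]
        _ = g * Φ k * g0⁻¹ := by group
        _ = g * (g⁻¹ * Φ d * g) * g0⁻¹ := by rw [e]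
        _ = _ := by group
    · intro e
      calc g⁻¹ * Φ d * g = g⁻¹ * (Φ d * (g * g0⁻¹)) * g0 := by group
        _ = g⁻¹ * (g * g0⁻¹ * Φ d) * g0 := by rw [e]
        _ = g0⁻¹ * Φ d * g0 := by group
        _ = Φ k := by rw [← hg0]; group
  rw [Finset.sum_congr rfl fun k _ => hfib k, Finset.sum_const, Finset.card_univ, Fintype.card_subtype,
    inD_conj_card d hd hd1, hcent, smul_eq_mul]
  split_ifs <;> norm_num

theorem card_mod : Nat.card G % 3240 = 720 := by
  classical
  haveI := Fintype.ofFinite G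
  set N := Subgroup.normalizer (dSub Φ : Set G) with hN
  letI act : MulAction (dSub Φ × N) G :=
    { smul := fun p g => (p.1 : G) * g * (p.2 : G)⁻¹
      one_smul := fun g => by
        show ((1 : dSub Φ × N).1 : G) * g * ((1 : dSub Φ × N).2 : G)⁻¹ = g
        simp
      mul_smul := fun p q g => by
        show ((p * q).1 : G) * g * ((p * q).2 : G)⁻¹ = (p.1 : G) * ((q.1 : G) * g * (q.2 : G)⁻¹) * (p.2 : G)⁻¹
        simp only [Prod.fst_mul, Prod.snd_mul, Subgroup.coe_mul]
        group }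
  have hb := MulAction.sum_card_fixedBy_eq_card_orbits_mul_card_group (dSub Φ × N) G
  have hfix : ∀ d : dSub Φ, ∑ n : N, Fintype.card (MulAction.fixedBy G (d, n)) =
      Nat.card {g : G // g⁻¹ * (d : G) * g ∈ dSub Φ} := by
    intro d
    simp only [← Nat.card_eq_fintype_card]
    rw [← Nat.card_sigma]
    have hd3 : (d : G) ^ 3 = 1 := by
      obtain ⟨x, hx, e⟩ := mem_dSub.mp d.2
      rw [← e, ← map_pow, hx.2.2, map_one]
    refine Nat.card_congr
      { toFun := fun p => ⟨p.2.1, ?_⟩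
        invFun := fun g => ⟨⟨g.1⁻¹ * (d : G) * g.1, Subgroup.le_normalizer g.2⟩, ⟨g.1, ?_⟩⟩
        left_inv := ?_
        right_inv := fun g => rfl }
    · obtain ⟨n, g, hg⟩ := p
      have hg' : (d : G) * g * (n : G)⁻¹ = g := hg
      have e : g⁻¹ * (d : G) * g = (n : G) := by
        rw [mul_assoc, inv_mul_eq_iff_eq_mul]
        exact mul_inv_eq_iff_eq_mul.mp hg'
      show g⁻¹ * (d : G) * g ∈ dSub Φ
      refine h.mem_of_normalizer (e ▸ n.2) ?_
      have := conj_pow (i := 3) (a := g⁻¹) (b := (d : G))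
      rw [inv_inv] at this
      rw [this, hd3]; group
    · show (d : G) * g.1 * (g.1⁻¹ * (d : G) * g.1)⁻¹ = g.1
      group
    · rintro ⟨n, g, hg⟩
      have hg' : (d : G) * g * (n : G)⁻¹ = g := hg
      have e : g⁻¹ * (d : G) * g = (n : G) := by
        rw [mul_assoc, inv_mul_eq_iff_eq_mul]
        exact mul_inv_eq_iff_eq_mul.mp hg'
      exact Sigma.subtype_ext (Subtype.ext e) rfl
  rw [Fintype.sum_prod_type, Finset.sum_congr rfl fun d _ => hfix d] at hb
  let e : {x : L360 // InD x} ≃ dSub Φ := Equiv.ofBijective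
    (fun x => ⟨Φ x.1, mem_dSub.mpr ⟨x.1, x.2, rfl⟩⟩)
    ⟨fun a b hab => Subtype.ext (h.inj (congrArg Subtype.val hab)), fun g => by
      obtain ⟨x, hx, e⟩ := mem_dSub.mp g.2
      exact ⟨⟨x, hx⟩, Subtype.ext e⟩⟩
  rw [← Equiv.sum_comp e, Finset.sum_congr rfl fun x _ =>
    show Nat.card {g : G // g⁻¹ * (e x : G) * g ∈ dSub Φ} = _ from h.card_into x.2] at hb
  have hsum : ∑ x : {x : L360 // InD x}, (if x.1 = 1 then Nat.card G else if IsY x.1 then 72 else 720) =
      Nat.card G + 3168 := by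
    rw [← Finset.sum_subtype (Finset.univ.filter InD) (fun x => by simp) (fun x : L360 =>
      if x = 1 then Nat.card G else if IsY x then 72 else 720)]
    rw [Finset.sum_ite, Finset.sum_ite]
    simp only [Finset.sum_const, smul_eq_mul, Finset.filter_filter]
    rw [show (Finset.univ.filter fun a : L360 => InD a ∧ a = 1).card = 1 by decide +kernel,
      show (Finset.univ.filter fun a : L360 => (InD a ∧ ¬a = 1) ∧ IsY a).card = 4 by decide +kernel,
      show (Finset.univ.filter fun a : L360 => (InD a ∧ ¬a = 1) ∧ ¬ IsY a).card = 4 by decide +kernel]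
    ring
  rw [hsum, Fintype.card_prod, ← Nat.card_eq_fintype_card (α := dSub Φ), ← Nat.card_eq_fintype_card (α := N),
    h.card_dSub, h.card_normalizer] at hb
  have h180 : 180 ∣ Nat.card G := h.card_z ▸ Subgroup.card_subgroup_dvd_card _
  omega

end Loc

end CfsgLib.AEightLocal
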