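import Cfsg.Agent.Lib.AEightLocal.Values
import Cfsg.Agent.Lib.AEightLocal.Sylow
import Cfsg.Agent.Lib.AEightLocal.Search
import Cfsg.Agent.Lib.AEightLocal.NoLarge
import Cfsg.Agent.Lib.Char.Integral
import Mathlib

/-!
The bound on the order of a group with the 3-local structure of `A₈`.
-/

set_option autoImplicit false

namespace CfsgLib.AEightLocal

open Cfsg CfsgLib.Char CfsgLib.InvolChar
open scoped ComplexConjugate

universe u

variable {G : Type u} [Group G] [Fintype G] {Φ : L360 →* G} {w : G}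

/-- The coordinates of the trivial character. -/
def triv : Fin 6 → ℤ := ![0, -1, 0, 1, 0, 0]

/-- Orders of the centralizers of the six classes. -/
def cardTab : Fin 6 → ℕ := ![180, 12, 18, 6, 15, 15]

theorem weight_gram (i j : Fin 6) :
    ∑ k, wt i k * conj (wt j k) * (cardTab k : ℂ) =
      ((gramAt i j + triv i * triv j : ℤ) : ℂ) := by
  fin_cases i <;> fin_cases j <;>
    simp [Fin.sum_univ_six, wt, cardTab, gramAt, gram, triv, map_div₀, map_neg, map_ofNat, eta_conj] <;>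
    (try ring_nf) <;> (try (rw [pow_two, eta_sq])) <;> (try norm_num)

theorem weight_triv (i : Fin 6) : ∑ k, wt i k = ((triv i : ℤ) : ℂ) := by
  fin_cases i <;> simp [Fin.sum_univ_six, wt, triv] <;> ring

namespace Loc

variable (h : Loc Φ w)
include h

theorem orth (k l : Fin 6) :
    ∑ χ : IrrCharacter G, val Φ w χ k * conj (val Φ w χ l) = if k = l then (cardTab k : ℂ) else 0 := by
  classical
  have e := second_orthogonality (cls Φ w k) (cls Φ w l)
  rw [show (∑ χ : IrrCharacter G, val Φ w χ k * conj (val Φ w χ l)) = _ from e]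
  by_cases hkl : k = l
  · subst hkl
    rw [if_pos (IsConj.refl _), if_pos rfl, h.card_cls]
    rfl
  · rw [if_neg (h.cls_not_conj hkl), if_neg hkl]

/-- The coordinates. -/
noncomputable def crd (χ : IrrCharacter G) : Fin 6 → ℤ := (values h χ).choose

theorem crd_spec (χ : IrrCharacter G) :
    (∀ i, (h.crd χ i : ℂ) = ∑ k, wt i k * val Φ w χ k) ∧ (h.crd χ 5 - h.crd χ 0) % 2 = 0 ∧
      val Φ w χ 0 = ((h.crd χ 3 + 4 * h.crd χ 2 + 5 * h.crd χ 4 + 3 * h.crd χ 5 : ℤ) : ℂ) ∧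
      val Φ w χ 2 = ((h.crd χ 3 + h.crd χ 2 - h.crd χ 4 : ℤ) : ℂ) ∧
      h.crd χ 3 + 4 * h.crd χ 2 + 5 * h.crd χ 4 + 3 * h.crd χ 5 +
        3 * (h.crd χ 2 + 2 * h.crd χ 4 + h.crd χ 5 + 3 * max 0 (-h.crd χ 2) +
          6 * max (max 0 (-h.crd χ 4))
            (max 0 (-h.crd χ 3) + max 0 (-h.crd χ 2) - (h.crd χ 2 + 2 * h.crd χ 4 + h.crd χ 5))) +
          9 * max 0 (-h.crd χ 5) ≤ (deg χ : ℤ) ∧
      (9 : ℤ) ∣ (deg χ : ℤ) - (2 * (h.crd χ 3 + 4 * h.crd χ 2 + 5 * h.crd χ 4 + 3 * h.crd χ 5) -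
        (h.crd χ 3 + h.crd χ 2 - h.crd χ 4)) :=
  (values h χ).choose_spec

theorem crd_irrOne (i : Fin 6) : h.crd (irrOne : IrrCharacter G) i = triv i := by
  have e := (h.crd_spec (irrOne : IrrCharacter G)).1 i
  simp only [val, irrOne_apply, mul_one] at e
  rw [weight_triv] at e
  exact_mod_cast e

theorem crd_gram (i j : Fin 6) :
    ∑ χ : IrrCharacter G, h.crd χ i * h.crd χ j = gramAt i j + triv i * triv j := by
  refine (@Int.cast_inj ℂ _ _ _ _).mp ?_
  rw [← weight_gram]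
  push_cast
  have hcj : ∀ χ : IrrCharacter G, (h.crd χ j : ℂ) = ∑ k, conj (wt j k) * conj (val Φ w χ k) := fun χ => by
    have := congrArg conj ((h.crd_spec χ).1 j)
    simpa only [map_intCast, map_sum, map_mul] using this
  simp only [(h.crd_spec _).1 i, hcj, Finset.sum_mul, Finset.mul_sum]
  rw [Finset.sum_comm]
  refine Finset.sum_congr rfl fun k _ => ?_
  rw [Finset.sum_comm, Finset.sum_eq_single k]
  · rw [Finset.sum_congr rfl fun χ _ => show wt i k * val Φ w χ k * (conj (wt j k) * conj (val Φ w χ k)) =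
      wt i k * conj (wt j k) * (val Φ w χ k * conj (val Φ w χ k)) by ring, ← Finset.mul_sum, h.orth, if_pos rfl]
  · intro l _ hl
    rw [Finset.sum_congr rfl fun χ _ => show wt i l * val Φ w χ l * (conj (wt j k) * conj (val Φ w χ k)) =
      wt i l * conj (wt j k) * (val Φ w χ l * conj (val Φ w χ k)) by ring, ← Finset.mul_sum, h.orth,
      if_neg hl, mul_zero]
  · simp

theorem crd_deg (i : Fin 6) : ∑ χ : IrrCharacter G, h.crd χ i * (deg χ : ℤ) = 0 := by
  classical
  refine (@Int.cast_inj ℂ _ _ _ _).mp ?_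
  push_cast
  simp only [(h.crd_spec _).1 i, Finset.sum_mul]
  rw [Finset.sum_comm]
  refine Finset.sum_eq_zero fun k _ => ?_
  have e := second_orthogonality (cls Φ w k) (1 : G)
  rw [if_neg (fun hc => h.cls_ne_one k (isConj_one_right.mp hc.symm))] at e
  simp only [deg_spec, map_natCast] at e
  rw [Finset.sum_congr rfl fun χ _ => show wt i k * val Φ w χ k * (deg χ : ℂ) =
    wt i k * (val Φ w χ k * (deg χ : ℂ)) by ring, ← Finset.mul_sum]
  rw [show (∑ χ : IrrCharacter G, val Φ w χ k * (deg χ : ℂ)) = 0 from e, mul_zero]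

theorem order_bound : Nat.card G < 21960 := by
  classical
  let ι := {χ : IrrCharacter G // χ ≠ (irrOne : IrrCharacter G)}
  haveI : Fintype ι := Subtype.fintype _
  have hsplit : ∀ {M : Type} [AddCommMonoid M] (F : IrrCharacter G → M),
      ∑ χ, F χ = F (irrOne : IrrCharacter G) + ∑ χ : ι, F χ.1 := by
    intro M _ F
    rw [← Finset.add_sum_erase _ _ (Finset.mem_univ (irrOne : IrrCharacter G))]
    congr 1
    exact Finset.sum_subtype _ (fun χ => by simp) F
  let cr : ι → ℕ → ℤ := fun χ i => if hi : i < 6 then h.crd χ.1 ⟨i, hi⟩ else 0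
  let sg : ι → ℤ := fun χ =>
    if hex : ∃ i, cr χ i ≠ 0 then (if cr χ (Nat.find hex) < 0 then -1 else 1) else 1
  have hsg : ∀ χ, sg χ = 1 ∨ sg χ = -1 := fun χ => by
    simp only [sg]; split_ifs <;> simp
  let c : ι → ℕ → ℤ := fun χ i => sg χ * cr χ i
  have hcr : ∀ (χ : ι) (i : Fin 6), cr χ i.val = h.crd χ.1 i := fun χ i => by
    simp only [cr, dif_pos i.isLt]
  have hzero : ∀ χ i, c χ i = 0 → cr χ i = 0 := fun χ i e => by
    rcases hsg χ with hs | hs <;> simp [c, hs] at e <;> exact e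
  have hnorm : ∀ χ i, i < 6 → (∀ j < i, c χ j = 0) → 0 ≤ c χ i := by
    intro χ i hi hj
    by_cases h0 : cr χ i = 0
    · simp [c, h0]
    have hex : ∃ i, cr χ i ≠ 0 := ⟨i, h0⟩
    have hfind : Nat.find hex = i := by
      refine (Nat.find_eq_iff hex).mpr ⟨h0, fun j hji => not_not.mpr (hzero χ j (hj j hji))⟩
    simp only [c, sg, dif_pos hex, hfind]
    split_ifs with hneg
    · omega
    · omega
  have hgram : ∀ i < 6, ∀ j < 6, ∑ χ, c χ i * c χ j = gramAt i j := by
    intro i hi j hj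
    have e := h.crd_gram ⟨i, hi⟩ ⟨j, hj⟩
    rw [hsplit (fun χ => h.crd χ ⟨i, hi⟩ * h.crd χ ⟨j, hj⟩), h.crd_irrOne, h.crd_irrOne] at e
    simp only [Fin.val_mk] at e
    have e2 : ∀ χ : ι, c χ i * c χ j = h.crd χ.1 ⟨i, hi⟩ * h.crd χ.1 ⟨j, hj⟩ := fun χ => by
      rw [← hcr χ ⟨i, hi⟩, ← hcr χ ⟨j, hj⟩]
      rcases hsg χ with hs | hs <;> simp [c, hs]
    rw [Finset.sum_congr rfl fun χ _ => e2 χ]
    linarith
  have hpar : ∀ χ, (c χ 5 - c χ 0) % 2 = 0 := by
    intro χ
    have e := (h.crd_spec χ.1).2.1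
    rw [← hcr χ 5, ← hcr χ 0] at e
    simp only [show ((5 : Fin 6) : ℕ) = 5 from rfl, Fin.val_zero] at e
    rcases hsg χ with hs | hs <;> simp only [c, hs, one_mul, neg_mul] <;> omega
  obtain ⟨l, hl, hout, hL⟩ := exists_config c hnorm hgram hpar
  let vec : ι → List ℤ := fun χ => (List.range 6).map (cr χ)
  let p : List (List ℤ × ℕ) := l.map fun χ => (vec χ, deg χ.1)
  have hget : ∀ (χ : ι) (i : Fin 6), (vec χ).getD i.val 0 = h.crd χ.1 i := fun χ i => by
    rw [← hcr χ i]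
    exact pre_getD cr i.isLt χ
  have g1 : ∀ χ, (vec χ).getD 1 0 = h.crd χ.1 1 := fun χ => hget χ 1
  have g2 : ∀ χ, (vec χ).getD 2 0 = h.crd χ.1 2 := fun χ => hget χ 2
  have g3 : ∀ χ, (vec χ).getD 3 0 = h.crd χ.1 3 := fun χ => hget χ 3
  have g4 : ∀ χ, (vec χ).getD 4 0 = h.crd χ.1 4 := fun χ => hget χ 4
  have g5 : ∀ χ, (vec χ).getD 5 0 = h.crd χ.1 5 := fun χ => hget χ 5
  have hout' : ∀ χ : ι, χ ∉ l → h.crd χ.1 1 = 0 ∧ h.crd χ.1 2 = 0 ∧ h.crd χ.1 3 = 0 ∧ h.crd χ.1 4 = 0 := by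
    intro χ hχ
    have e : ∀ i : Fin 6, 1 ≤ i.val → i.val ≤ 4 → h.crd χ.1 i = 0 := fun i h1 h4 => by
      rw [← hcr χ i]; exact hzero χ _ (hout χ hχ _ h1 h4)
    exact ⟨e 1 (by decide) (by decide), e 2 (by decide) (by decide), e 3 (by decide) (by decide),
      e 4 (by decide) (by decide)⟩
  have hlsum : ∀ {M : Type} [AddCommMonoid M] (F : ι → M), (∀ χ, χ ∉ l → F χ = 0) →
      (l.map F).sum = ∑ χ : ι, F χ := by
    intro M _ F hF
    rw [← List.sum_toFinset F hl]
    exact Finset.sum_subset (Finset.subset_univ _) fun χ _ hh => hF χ (by simpa using hh)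
  have hA : ∀ χ : IrrCharacter G, (χ : G → ℂ) (Φ (mc * me)) =
      ((h.crd χ 3 + h.crd χ 2 - h.crd χ 4 : ℤ) : ℂ) := fun χ => (h.crd_spec χ).2.2.2.1
  have hZ : ∀ χ : IrrCharacter G, (χ : G → ℂ) (Φ mc) =
      ((h.crd χ 3 + 4 * h.crd χ 2 + 5 * h.crd χ 4 + 3 * h.crd χ 5 : ℤ) : ℂ) := fun χ => (h.crd_spec χ).2.2.1
  have hone : (deg (irrOne : IrrCharacter G) : ℚ) = 1 := by rw [deg_irrOne]; norm_num
  have hMeets : Meets (Nat.card G) p := by
    refine ⟨fun s hs => ?_, ?_, ?_, fun q hq => ?_, fun q hq => ?_⟩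
    · have hd : ∀ i : Fin 6, ∑ χ : ι, h.crd χ.1 i * (deg χ.1 : ℤ) = - triv i := by
        intro i
        have e := h.crd_deg i
        rw [hsplit (fun χ => h.crd χ i * (deg χ : ℤ)), h.crd_irrOne, deg_irrOne] at e
        push_cast at e
        linarith
      have hs2 : s.2 = s.1.getD 0 0 - s.1.getD 2 0 := by
        revert s; decide
      rw [List.map_map, hlsum _ (fun χ hχ => by
        obtain ⟨z1, z2, z3, z4⟩ := hout' χ hχ
        simp only [Function.comp_apply, dotSel, g1, g2, g3, g4, z1, z2, z3, z4]; ring)]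
      simp only [Function.comp_apply, dotSel, g1, g2, g3, g4, add_mul, mul_assoc, Finset.sum_add_distrib,
        ← Finset.mul_sum, hd, hs2]
      simp [triv]
      ring
    · have e := pairs_eq_gen (Φ (mc * me)) (Φ mc) (Φ (mc * me)) _ _ _ hA hZ hA
      rw [h.count_yzy, h.card_y, h.card_z] at e
      norm_num only at e
      rw [e]
      congr 1
      rw [hsplit (M := ℚ), h.crd_irrOne, h.crd_irrOne, h.crd_irrOne, h.crd_irrOne, hone, List.map_map,
        hlsum _ (fun χ hχ => by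
          obtain ⟨z1, z2, z3, z4⟩ := hout' χ hχ
          simp only [Function.comp_apply, t1Of, aOf, g2, g3, g4, z2, z3, z4]; simp)]
      refine congrArg₂ _ (by simp [triv]) (Finset.sum_congr rfl fun χ _ => ?_)
      simp only [Function.comp_apply, t1Of, aOf, zOf, g2, g3, g4, g5]
      push_cast; ring
    · have e := pairs_eq_gen (Φ mc) (Φ mc) (Φ (mc * me)) _ _ _ hZ hZ hA
      rw [h.count_zzy, h.card_z] at e
      norm_num only at e
      rw [e]
      congr 1
      rw [hsplit (M := ℚ), h.crd_irrOne, h.crd_irrOne, h.crd_irrOne, h.crd_irrOne, hone, List.map_map,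
        hlsum _ (fun χ hχ => by
          obtain ⟨z1, z2, z3, z4⟩ := hout' χ hχ
          simp only [Function.comp_apply, t2Of, aOf, g2, g3, g4, z2, z3, z4]; simp)]
      refine congrArg₂ _ (by simp [triv]) (Finset.sum_congr rfl fun χ _ => ?_)
      simp only [Function.comp_apply, t2Of, aOf, zOf, g2, g3, g4, g5]
      push_cast; ring
    · obtain ⟨χ, -, rfl⟩ := List.mem_map.mp hq
      exact degree_dvd_card χ.1.2 (deg_spec χ.1)
    · obtain ⟨χ, -, rfl⟩ := List.mem_map.mp hq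
      have e := sum_degree_sq (G := G)
      simp only [deg_spec] at e
      have e' : ∑ ψ : IrrCharacter G, deg ψ ^ 2 = Nat.card G := by exact_mod_cast e
      rw [← e', ← pow_two]
      exact Finset.single_le_sum (f := fun ψ => deg ψ ^ 2) (fun _ _ => Nat.zero_le _) (Finset.mem_univ χ.1)
  refine no_large hL hMeets ?_ h.card_mod
  rw [List.forall₂_map_left_iff, List.forall₂_map_right_iff, List.forall₂_same]
  intro χ _
  have hsp := h.crd_spec χ.1
  refine ⟨?_, ?_, ?_, deg_pos χ.1⟩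
  · rcases hsg χ with hs | hs
    · left; simp [vec, pre, c, hs]
    · right; simp [vec, pre, c, hs]
  · simp only [lbOf, g2, g3, g4, g5]
    exact hsp.2.2.2.2.1
  · have e9 := hsp.2.2.2.2.2
    simp only [resOf, zOf, aOf, g2, g3, g4, g5]
    omega

end Loc

end CfsgLib.AEightLocal
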