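import Cfsg.Agent.Lib.AEightLocal.Classes
import Cfsg.Agent.Lib.Presentations.AltCarmichael
import Mathlib

/-!
A group of order less than `21960` with the local structure of `A₈` is `A₈`.
-/

set_option autoImplicit false

namespace CfsgLib.AEightLocal

open Equiv CfsgLib.Presentations.Carmichael

universe u

/-- The involution moving `e` to the second generator. -/
def msw : L360 := ⟨(1, swap 1 4 * swap 2 3), by decide⟩

/-- The second generator, in the conjugate copy of `L360`. -/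
def myp : L360 := ⟨(1, swap 2 3 * swap 3 1), by decide⟩

/-- The two three-cycles completing `e` to a point stabilizer of `A₅`. -/
def mq : Fin 2 → L360 :=
  ![⟨(1, swap 1 2 * swap 2 3), by decide⟩, ⟨(1, swap 0 2 * swap 2 3), by decide⟩]

/-- The point fixed by `e` and the chosen three-cycle. -/
def pt : Fin 2 → Fin 5 := ![0, 1]

/-- The subgroup generated by `e` and `t_z t_u`. -/
abbrev InH (x : L360) : Prop := ∃ i : Fin 3, x = me ^ i.val ∨ x = me ^ i.val * (mtz * mtu)

/-- Words in an element outside and the known elements. -/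
def word (x : L360) : Fin 14 → L360 :=
  ![x * me * x⁻¹, me * x * me * x⁻¹ * me⁻¹, me⁻¹ * x * me * x⁻¹ * me, x * x, x * me * x * me,
    x * me⁻¹ * x * me⁻¹, x * (mtz * mtu) * x * (mtz * mtu), x * x * me * x⁻¹ * x⁻¹,
    x * (mtz * mtu) * x⁻¹, x * (mtz * mtu) * x⁻¹ * (mtz * mtu), x * x * x, x * me * (mtz * mtu),
    x * me⁻¹ * (mtz * mtu), x * (mtz * mtu)]

theorem word_find : ∀ x : L360, ¬ InH x → ∃ k : Fin 14,
    (∃ j : Fin 2, word x k = mq j ∨ word x k = (mq j)⁻¹) ∨
      word x k = mc ∨ word x k = mc⁻¹ ∨ word x k = mtz := by decide +kernel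

theorem inH_card : (Finset.univ.filter fun x : L360 => InH x).card = 6 := by decide +kernel

theorem ident_facts : msw * me * msw⁻¹ = myp⁻¹ ∧ msw * mc = mc * msw ∧ myp * mc = mc * myp ∧
    (mtz * mtu) * myp⁻¹ * (mtz * mtu)⁻¹ = myp ∧ me * myp⁻¹ * me⁻¹ ≠ myp⁻¹ ∧
    me * myp⁻¹ * me⁻¹ ≠ myp ∧ mtu * myp⁻¹ * mtu⁻¹ ≠ myp⁻¹ ∧ mtu * myp⁻¹ * mtu⁻¹ ≠ myp ∧
    msw * me * msw⁻¹ ≠ me ∧ msw * me * msw⁻¹ ≠ me⁻¹ ∧ myp ^ 3 = 1 ∧ myp ≠ 1 ∧
    (myp * me) ^ 2 = 1 ∧ (myp * (mtz * myp * mtz⁻¹)) ^ 2 = 1 ∧ mtz * mtz = 1 := by decide +kernel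

theorem mq_facts : ∀ j, mq j ^ 3 = 1 ∧ mq j * mc = mc * mq j := by decide +kernel

theorem stab_gen : ∀ (j : Fin 2) (a : L360), a.1.1 = 1 → a.1.2 (pt j) = (pt j) →
    ∃ p q r t : Fin 3, a = me ^ p.val * mq j ^ q.val * me ^ r.val * mq j ^ t.val := by decide +kernel

theorem two_transitive : ∀ (j : Fin 2) (i i' : Fin 5), i ≠ i' → ∃ a : L360,
    a.1.1 = 1 ∧ a.1.2 (pt j) = i ∧ a.1.2 (mtu.1.2 (pt j)) = i' := by decide +kernel

theorem move : ∀ (j : Fin 2) (i : Fin 5), ∃ a : L360, a.1.1 = 1 ∧ a.1.2 (pt j) = i := by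
  decide +kernel

theorem first_fix : ∀ a : L360, a.1.1 = 1 → a * mc = mc * a := by decide +kernel

theorem pow_commute {M : Type*} [Monoid M] {a b : M} (h : Commute a b) (n : ℕ) : Commute (a ^ n) b :=
  h.pow_left n

variable {G : Type u} [Group G] {Φ : L360 →* G} {w : G}

namespace Loc

variable [Finite G] (h : Loc Φ w)
include h

omit [Finite G] in
/-- A point stabilizer of `A₅` centralizing the second generator. -/
theorem exists_point (hK : ∃ x : L360, ¬ InH x ∧
      (w * Φ msw * w)⁻¹ * Φ x * (w * Φ msw * w) ∈ Φ.range) :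
    ∃ j : Fin 2, ∀ a : L360, a.1.1 = 1 → a.1.2 (pt j) = (pt j) →
      Commute (Φ a) (w * Φ myp * w) := by
  obtain ⟨h1, h2, h3, h4, h5, h6, h7, h8, -, -, hy3, hy1, -, -, -⟩ := ident_facts
  set g := w * Φ msw * w with hg
  set Y := w * Φ myp * w with hY
  let ψ : L360 →* G :=
    { toFun := fun x => w * Φ x * w
      map_one' := by rw [map_one, mul_one, h.w_sq]
      map_mul' := fun x y => by rw [map_mul, h.ww_mul] }
  have hψ : ∀ x, ψ x = w * Φ x * w := fun x => rfl
  have hψi : Function.Injective ψ := fun a b e => h.inj (mul_left_cancel (mul_right_cancel e))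
  have hψc : ψ mc = Φ me := h.w_c
  have hψe : ψ me = Φ mc := h.w_e
  have hgz : g * Φ mc * g⁻¹ = Y⁻¹ := by
    rw [← hψe, hg, hY, ← hψ, ← hψ, ← map_inv, ← map_mul, ← map_mul, h1, map_inv]
  let K : Subgroup L360 := ((Φ.range).map (MulAut.conj g).toMonoidHom).comap Φ
  have hKmem : ∀ x, x ∈ K ↔ g⁻¹ * Φ x * g ∈ Φ.range := by
    intro x
    simp only [K, Subgroup.mem_comap, Subgroup.mem_map, MulEquiv.coe_toMonoidHom, MulAut.conj_apply]
    exact ⟨fun ⟨r, hr, e⟩ => by rw [← e]; simpa [mul_assoc] using hr,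
      fun hr => ⟨_, hr, by group⟩⟩
  have hKY : ∀ x ∈ K, Φ x * Y⁻¹ * (Φ x)⁻¹ = Y⁻¹ ∨ Φ x * Y⁻¹ * (Φ x)⁻¹ = Y := by
    intro x hx
    obtain ⟨m, hm⟩ := (hKmem x).mp hx
    have e : Φ x * Y⁻¹ * (Φ x)⁻¹ = g * (Φ m * Φ mc * (Φ m)⁻¹) * g⁻¹ := by
      rw [hm, ← hgz]; group
    rcases conj_mc m with em | em <;> rw [conj_map_of_conj Φ em] at e
    · exact Or.inl (e.trans hgz)
    · refine Or.inr (e.trans ?_)
      calc g * Φ mc⁻¹ * g⁻¹ = (g * Φ mc * g⁻¹)⁻¹ := by rw [map_inv]; group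
        _ = Y := by rw [hgz, inv_inv]
  have hYc : Commute (Φ me) Y := by
    rw [← hψc, hY, ← hψ]
    exact (show Commute mc myp from h3.symm).map ψ
  have heK : me ∈ K := by
    rw [hKmem]
    refine ⟨me, ?_⟩
    rw [← hψc, hg, ← hψ, ← map_inv, ← map_mul, ← map_mul]
    refine congrArg ψ ?_
    rw [mul_assoc, ← h2, inv_mul_cancel_left]
  have ht3 : Φ (mtz * mtu) = ψ (mtz * mtu) := by
    rw [map_mul ψ, hψ, hψ, h.w_tz, h.w_tu, ← map_mul]
    exact congrArg Φ tz_facts.2.2.2.2.2.2.1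
  have htK : mtz * mtu ∈ K := by
    rw [hKmem]
    refine h.nz _ ?_
    have e : Φ (mtz * mtu) * Y⁻¹ * (Φ (mtz * mtu))⁻¹ = Y := by
      rw [ht3, hY, ← hψ, ← map_inv, ← map_inv, ← map_mul, ← map_mul, h4]
    have hg' : g⁻¹ * Y * g = (Φ mc)⁻¹ := by
      calc g⁻¹ * Y * g = g⁻¹ * (g * Φ mc * g⁻¹)⁻¹ * g := by rw [hgz, inv_inv]
        _ = _ := by group
    calc g⁻¹ * Φ (mtz * mtu) * g * Φ mc * (g⁻¹ * Φ (mtz * mtu) * g)⁻¹
        = g⁻¹ * (Φ (mtz * mtu) * (g * Φ mc * g⁻¹) * (Φ (mtz * mtu))⁻¹) * g := by group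
      _ = _ := by rw [hgz, e, hg']
  have hnc : mc ∉ K := by
    intro hh
    have := hKY mc hh
    rw [← hψe, hY, ← hψ, ← map_inv, ← map_inv, ← map_mul, ← map_mul] at this
    rcases this with e | e
    · exact h5 (hψi e)
    · exact h6 (hψi e)
  have hntz : mtz ∉ K := by
    intro hh
    have := hKY mtz hh
    rw [← h.w_tu, ← hψ, hY, ← hψ, ← map_inv, ← map_inv, ← map_mul, ← map_mul] at this
    rcases this with e | e
    · exact h7 (hψi e)
    · exact h8 (hψi e)
  obtain ⟨x, hxH, hxK'⟩ := hK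
  have hxK : x ∈ K := (hKmem x).mpr hxK'
  have hword : ∀ k, word x k ∈ K := by
    intro k
    fin_cases k <;>
      · simp only [word, Matrix.cons_val, Fin.zero_eta, Fin.mk_one, Fin.reduceFinMk, Fin.isValue]
        repeat' first
          | exact hxK
          | exact heK
          | exact htK
          | apply mul_mem
          | apply inv_mem
  obtain ⟨k, ⟨j, hj⟩ | hbad⟩ := word_find x hxH
  · have hqK : mq j ∈ K := by
      rcases hj with e | e
      · exact e ▸ hword k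
      · exact (inv_mem_iff (x := mq j)).mp (e ▸ hword k)
    have hq : Commute (Φ (mq j)) Y := by
      rcases hKY _ hqK with e | e
      · exact (Commute.inv_right_iff).mp (mul_inv_eq_iff_eq_mul.mp e)
      · exfalso
        set Q := Φ (mq j)
        have e' : Q * Y * Q⁻¹ = Y⁻¹ := by
          calc Q * Y * Q⁻¹ = (Q * Y⁻¹ * Q⁻¹)⁻¹ := by group
            _ = Y⁻¹ := by rw [e]
        have q3 : Q ^ 3 = 1 := by rw [← map_pow, (mq_facts j).1, map_one]
        have hself : Y = Y⁻¹ := by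
          calc Y = Q ^ 3 * Y * (Q ^ 3)⁻¹ := by rw [q3]; group
            _ = Q * (Q * (Q * Y * Q⁻¹) * Q⁻¹) * Q⁻¹ := by
              simp only [pow_succ, pow_zero, one_mul, mul_inv_rev, mul_assoc]
            _ = Y⁻¹ := by rw [e', e, e']
        rw [hY, ← hψ, ← map_inv] at hself
        have e2 : myp * myp = 1 := eq_inv_iff_mul_eq_one.mp (hψi hself)
        exact hy1 (by rw [← hy3, pow_succ, pow_two, e2, one_mul])
    refine ⟨j, fun a ha1 ha2 => ?_⟩
    obtain ⟨p, q, r, t, rfl⟩ := stab_gen j a ha1 ha2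
    simp only [map_mul, map_pow]
    exact (((pow_commute hYc _).mul_left (pow_commute hq _)).mul_left (pow_commute hYc _)).mul_left
      (pow_commute hq _)
  · exfalso
    rcases hbad with e | e | e
    · exact hnc (e ▸ hword k)
    · exact hnc ((inv_mem_iff (x := mc)).mp (e ▸ hword k))
    · exact hntz (e ▸ hword k)

/-- The stabilizer of a conjugate of `N(⟨z⟩)` is large. -/
theorem exists_outside (hG : Nat.card G < 21960) :
    ∃ x : L360, ¬ InH x ∧ (w * Φ msw * w)⁻¹ * Φ x * (w * Φ msw * w) ∈ Φ.range := by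
  classical
  haveI := Fintype.ofFinite G
  set g := w * Φ msw * w with hg
  by_contra hno
  have hsub : ∀ x : L360, g⁻¹ * Φ x * g ∈ Φ.range → InH x := fun x hx =>
    by_contra fun hn => hno ⟨x, hn, hx⟩
  obtain ⟨h1, -, -, -, -, -, -, -, h9, h10, -⟩ := ident_facts
  have hgR : g ∉ Φ.range := by
    rintro ⟨m, hm⟩
    have e : g * Φ mc * g⁻¹ = w * Φ (msw * me * msw⁻¹) * w := by
      rw [hg, map_mul, map_mul, map_inv, h.ww_mul, h.ww_mul, h.w_e, mul_inv_rev, mul_inv_rev, h.w_inv]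
      group
    rw [← hm] at e
    rcases conj_mc m with em | em <;> rw [conj_map_of_conj Φ em] at e
    · rw [← h.w_e] at e
      exact h9 (h.inj (mul_left_cancel (mul_right_cancel e))).symm
    · refine h10 (h.inj ?_)
      have e' : w * Φ me⁻¹ * w = Φ mc⁻¹ := by
        rw [map_inv, map_inv, ← h.w_e, mul_inv_rev, mul_inv_rev, h.w_inv, mul_assoc]
      rw [← e'] at e
      exact (mul_left_cancel (mul_right_cancel e)).symm
  let f : L360 → G ⧸ Φ.range := fun x => ((Φ x * g : G) : G ⧸ Φ.range)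
  haveI : Fintype (G ⧸ Φ.range) := Fintype.ofFinite _
  have hfib : ∀ b ∈ Finset.univ.image f, (Finset.univ.filter fun x => f x = b).card ≤ 6 := by
    intro b hb
    obtain ⟨x0, -, rfl⟩ := Finset.mem_image.mp hb
    rw [← inH_card]
    refine Finset.card_le_card_of_injOn (fun x => x0⁻¹ * x) (fun x hx => ?_)
      (fun a _ b _ e => mul_left_cancel e)
    simp only [Finset.coe_filter, Finset.mem_univ, true_and, Set.mem_setOf_eq] at hx
    simp only [Finset.coe_filter, Finset.mem_univ, true_and, Set.mem_setOf_eq]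
    refine hsub _ ?_
    have := QuotientGroup.eq.mp hx.symm
    convert this using 1
    rw [map_mul, map_inv]; group
  have hR : Nat.card Φ.range = 360 := by
    rw [Nat.card_congr (MonoidHom.ofInjective h.inj).toEquiv.symm, Nat.card_eq_fintype_card, card_L360]
  have hidx : Φ.range.index * 360 = Nat.card G := by rw [← hR]; exact Subgroup.index_mul_card _
  have himg : (Finset.univ.image f).card < Φ.range.index := by
    rw [Subgroup.index_eq_card, Nat.card_eq_fintype_card]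
    refine Finset.card_lt_univ_of_notMem (x := ((1 : G) : G ⧸ Φ.range)) fun hc => ?_
    obtain ⟨x, -, hx⟩ := Finset.mem_image.mp hc
    have := QuotientGroup.eq.mp hx
    rw [mul_one, inv_mem_iff] at this
    exact hgR (by simpa using mul_mem (inv_mem (⟨x, rfl⟩ : Φ x ∈ Φ.range)) this)
  have hle := Finset.card_le_mul_card_image (s := (Finset.univ : Finset L360)) (f := f) 6 hfib
  rw [Finset.card_univ, card_L360] at hle
  omega

/-- Recognition. -/
theorem iso_altEight (hG : Nat.card G < 21960) : Nonempty (G ≃* alternatingGroup (Fin 8)) := by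
  classical
  obtain ⟨j, hj⟩ := h.exists_point (h.exists_outside hG)
  obtain ⟨-, -, -, -, -, -, -, -, -, -, hy3, hy1, hye, hyt, htz⟩ := ident_facts
  let ψ : L360 →* G :=
    { toFun := fun x => w * Φ x * w
      map_one' := by rw [map_one, mul_one, h.w_sq]
      map_mul' := fun x y => by rw [map_mul, h.ww_mul] }
  have hψi : Function.Injective ψ := fun a b e => h.inj (mul_left_cancel (mul_right_cancel e))
  set Y0 := ψ myp with hY0
  set z := Φ mc with hz
  have hψe : ψ me = z := h.w_e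
  have hψtz : ψ mtz = Φ mtu := h.w_tz
  have indep : ∀ a b : L360, a.1.1 = 1 → b.1.1 = 1 →
      a.1.2 (pt j) = b.1.2 (pt j) →
      Φ a * Y0 * (Φ a)⁻¹ = Φ b * Y0 * (Φ b)⁻¹ := by
    intro a b ha hb hab
    have hc := hj (b⁻¹ * a) (by
        show ((b⁻¹ * a : L360) : Perm (Fin 3) × Perm (Fin 5)).1 = 1
        simp [ha, hb]) (by
        show ((b⁻¹ * a : L360) : Perm (Fin 3) × Perm (Fin 5)).2 _ = _
        simp [hab])
    have e : Φ (b⁻¹ * a) * Y0 * (Φ (b⁻¹ * a))⁻¹ = Y0 := mul_inv_eq_iff_eq_mul.mpr hc.eq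
    rw [map_mul, map_inv] at e
    calc Φ a * Y0 * (Φ a)⁻¹ = Φ b * ((Φ b)⁻¹ * Φ a * Y0 * ((Φ b)⁻¹ * Φ a)⁻¹) * (Φ b)⁻¹ := by group
      _ = _ := by rw [e]
  choose rp hrp1 hrp2 using move j
  let Yi : Fin 5 → G := fun i => Φ (rp i) * Y0 * (Φ (rp i))⁻¹
  let y : Idx (0 : Fin 8) 1 → G := fun i =>
    if hi : 3 ≤ i.1.val then Yi ⟨i.1.val - 3, by omega⟩ else z
  have hcubeY : ∀ i, Yi i ^ 3 = 1 := fun i => by
    simp only [Yi, conj_pow, hY0, ← map_pow, hy3]; simp
  have hzY : ∀ i, (Yi i * z) ^ 2 = 1 := by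
    intro i
    have hc : Commute (Φ (rp i)) z := (show Commute (rp i) mc from first_fix _ (hrp1 i)).map Φ
    have e : Yi i * z = Φ (rp i) * (Y0 * z) * (Φ (rp i))⁻¹ := by
      simp only [Yi, mul_assoc]
      rw [(hc.inv_left).eq]
    have e2 : (Y0 * z) ^ 2 = 1 := by rw [hY0, ← hψe, ← map_mul, ← map_pow, hye, map_one]
    rw [e, conj_pow, e2]; simp
  have hYY : ∀ i i', i ≠ i' → (Yi i * Yi i') ^ 2 = 1 := by
    intro i i' hne
    obtain ⟨a, ha, hai, hai'⟩ := two_transitive j i i' hne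
    have e1 : Yi i = Φ a * Y0 * (Φ a)⁻¹ := indep _ _ (hrp1 i) ha (by rw [hrp2, hai])
    have e2 : Yi i' = Φ (a * mtu) * Y0 * (Φ (a * mtu))⁻¹ := indep _ _ (hrp1 i') (by
        show ((a * mtu : L360) : Perm (Fin 3) × Perm (Fin 5)).1 = 1
        simp [ha, mtu]) (by
        rw [hrp2]
        show i' = ((a * mtu : L360) : Perm (Fin 3) × Perm (Fin 5)).2 _
        simp [← hai'])
    have e3 : Yi i * Yi i' = Φ a * (Y0 * (Φ mtu * Y0 * (Φ mtu)⁻¹)) * (Φ a)⁻¹ := by
      rw [e1, e2, map_mul]; group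
    have e4 : (Y0 * (Φ mtu * Y0 * (Φ mtu)⁻¹)) ^ 2 = 1 := by
      rw [← hψtz, hY0, ← map_inv, ← map_mul, ← map_mul, ← map_mul, ← map_pow, hyt, map_one]
    rw [e3, conj_pow, e4]; simp
  have hz3 : z ^ 3 = 1 := by rw [hz, ← map_pow, mc_mc.1, map_one]
  have hrels : CRels y := by
    refine ⟨fun i => ?_, fun i i' hne => ?_⟩
    · simp only [y]; split
      · exact hcubeY _
      · exact hz3
    · have hv : i.1.val ≠ i'.1.val := fun e => hne (Subtype.ext (Fin.ext e))
      have hb : ∀ k : Idx (0 : Fin 8) 1, 2 ≤ k.1.val := fun k => by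
        have h0 := k.2.1
        have h1 := k.2.2
        simp only [ne_eq, Fin.ext_iff, Fin.val_zero, Fin.val_one] at h0 h1
        omega
      simp only [y]; split <;> split
      · exact hYY _ _ fun e => hv (by simp only [Fin.ext_iff] at e; omega)
      · exact hzY _
      · exact pair_comm' (hzY _)
      · have := hb i; have := hb i'; omega
  obtain ⟨Ψ, hΨ⟩ := exists_hom (by decide : (0 : Fin 8) ≠ 1) y hrels
  haveI : IsSimpleGroup (alternatingGroup (Fin 8)) := alternatingGroup.isSimpleGroup (by simp)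
  have hinj : Function.Injective Ψ := by
    rw [← MonoidHom.ker_eq_bot_iff]
    refine (Ψ.normal_ker.eq_bot_or_eq_top).resolve_right fun htop => ?_
    have e := hΨ ⟨2, by decide⟩
    rw [MonoidHom.mem_ker.mp (htop ▸ Subgroup.mem_top _)] at e
    simp [y] at e
    exact mc_mc.2 (h.inj (by rw [map_one]; exact e.symm))
  have h8 : Nat.card (alternatingGroup (Fin 8)) = 20160 := by
    rw [nat_card_alternatingGroup, Nat.card_fin]; rfl
  have hdvd := Subgroup.card_subgroup_dvd_card Ψ.range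
  rw [Nat.card_congr (MonoidHom.ofInjective hinj).toEquiv.symm, h8] at hdvd
  have hpos : 0 < Nat.card G := Nat.card_pos
  have hcard : Nat.card (alternatingGroup (Fin 8)) = Nat.card G := by
    obtain ⟨m, hm⟩ := hdvd
    rw [h8]
    have : m = 1 := by
      rcases Nat.lt_or_ge m 2 with hlt | hge
      · interval_cases m <;> omega
      · have := Nat.mul_le_mul_left 20160 hge
        omega
    rw [hm, this, mul_one]
  exact ⟨(MulEquiv.ofBijective Ψ ((Nat.bijective_iff_injective_and_card Ψ).mpr ⟨hinj, hcard⟩)).symm⟩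

end Loc

end CfsgLib.AEightLocal
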