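import Cfsg.Agent.Lib.AEightLocal.Model
import Cfsg.Agent.Lib.Invol.Counting
import Mathlib

/-!
The local subgroups of a group with the 3-local structure of `A₈`: the normalizer of a cyclic
subgroup of order three is the group `L360` and an involution `w` exchanges the two such subgroups
inside the Sylow subgroup.
-/

set_option autoImplicit false

namespace CfsgLib.AEightLocal

open CfsgLib.Invol

universe u

variable {G : Type u} [Group G]

/-- The 3-local data. -/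
structure Loc (Φ : L360 →* G) (w : G) : Prop where
  inj : Function.Injective Φ
  cz : ∀ g : G, g * Φ mc = Φ mc * g → g ∈ Φ.range
  nz : ∀ g : G, g * Φ mc * g⁻¹ = (Φ mc)⁻¹ → g ∈ Φ.range
  w_sq : w * w = 1
  w_c : w * Φ mc * w = Φ me
  w_tz : w * Φ mtz * w = Φ mtu
  cy : ∀ g : G, g * Φ (mc * me) = Φ (mc * me) * g → ∃ d, InD d ∧ (g = Φ d ∨ g = Φ d * w)
  normD : ∀ g : G, (∀ x, InD x → ∃ y, InD y ∧ g * Φ x * g⁻¹ = Φ y) →
    ∃ a, InD (a * me * a⁻¹) ∧ (g = Φ a ∨ g = Φ a * w)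
  syl : ∀ K : Subgroup G, IsPGroup 3 K → ∃ g : G, ∀ x ∈ K, ∃ d, InD d ∧ g * x * g⁻¹ = Φ d

theorem zpow_cases {z : G} (hz : z ^ 3 = 1) {h : G} (hh : h ∈ Subgroup.zpowers z) :
    h = 1 ∨ h = z ∨ h = z⁻¹ := by
  obtain ⟨k, rfl⟩ := Subgroup.mem_zpowers_iff.mp hh
  have h3 : z ^ (3 : ℤ) = 1 := by exact_mod_cast hz
  have e : z ^ k = z ^ (k % 3) := by
    conv_lhs => rw [← Int.mul_ediv_add_emod k 3, zpow_add, zpow_mul, h3, one_zpow, one_mul]
  have hinv : z ^ (2 : ℤ) = z⁻¹ := by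
    rw [eq_inv_iff_mul_eq_one, ← zpow_add_one]; exact h3
  rw [e]
  have h1 : k % 3 = 0 ∨ k % 3 = 1 ∨ k % 3 = 2 := by omega
  rcases h1 with h1 | h1 | h1 <;> rw [h1]
  · left; simp
  · right; left; simp
  · right; right; exact hinv

theorem mem_normalizer_of_conj [Finite G] (D : Subgroup G) {g : G}
    (h : ∀ x ∈ D, g * x * g⁻¹ ∈ D) : g ∈ Subgroup.normalizer (D : Set G) := by
  have hinj : Function.Injective (fun x : D => (⟨g * x * g⁻¹, h x x.2⟩ : D)) := fun a b e =>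
    Subtype.ext (by simpa using congrArg Subtype.val e)
  have hsurj := Finite.injective_iff_surjective.mp hinj
  rw [Subgroup.mem_normalizer_iff]
  refine fun x => ⟨h x, fun hx => ?_⟩
  obtain ⟨⟨a, ha⟩, e⟩ := hsurj ⟨g * x * g⁻¹, hx⟩
  have e' : g * a * g⁻¹ = g * x * g⁻¹ := congrArg Subtype.val e
  rw [mul_left_inj, mul_right_inj] at e'
  exact e' ▸ ha

theorem card_centralizer_inv (x : G) :
    Nat.card (Subgroup.centralizer ({x⁻¹} : Set G)) = Nat.card (Subgroup.centralizer ({x} : Set G)) := by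
  have e : Subgroup.centralizer ({x⁻¹} : Set G) = Subgroup.centralizer ({x} : Set G) := by
    ext g
    simp only [Subgroup.mem_centralizer_singleton_iff]
    exact Commute.inv_right_iff
  rw [e]

theorem conj_map_of_conj (Φ : L360 →* G) {a x y : L360} (h : a * x * a⁻¹ = y) :
    Φ a * Φ x * (Φ a)⁻¹ = Φ y := by
  rw [← h, map_mul, map_mul, map_inv]

theorem tu_comm : ∀ i : Fin 3,
    (mc ^ (2 * i.val))⁻¹ * (mtu * me ^ i.val) * mc ^ (2 * i.val) = mtu * me ^ i.val := by decide +kernel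

section Construct

variable [Finite G]

/-- The local data from the hypotheses of the recognition theorem. -/
theorem exists_loc (P : Sylow 3 G) (D : Subgroup G) (hDP : D = P) (y z : G)
    (hgen : Subgroup.closure {y, z} = D) (hcomm : IsMulCommutative D) (hcard : Nat.card D = 9)
    (hexp : ∀ a ∈ D, a ^ 3 = 1) (hC : Subgroup.centralizer (D : Set G) = D)
    (eN : Subgroup.normalizer (D : Set G) ⧸ D.subgroupOf (Subgroup.normalizer (D : Set G)) ≃* DihedralGroup 4)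
    (hycard : Nat.card (Subgroup.centralizer ({y} : Set G)) = 18)
    (eC : Subgroup.centralizer ({z} : Set G) ≃* Multiplicative (ZMod 3) × alternatingGroup (Fin 5))
    (eL : Subgroup.normalizer (Subgroup.zpowers z : Set G) ≃* L360) :
    ∃ (Φ : L360 →* G) (w : G), Loc Φ w := by
  classical
  have hzD : z ∈ D := hgen ▸ Subgroup.subset_closure (by simp)
  have hyD : y ∈ D := hgen ▸ Subgroup.subset_closure (by simp)
  have hz3 : z ^ 3 = 1 := hexp z hzD
  have hCz : Nat.card (Subgroup.centralizer ({z} : Set G)) = 180 := by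
    rw [Nat.card_congr eC.toEquiv, Nat.card_prod]
    rw [Nat.card_congr Multiplicative.toAdd, Nat.card_zmod, nat_card_alternatingGroup, Nat.card_fin]
    rfl
  have hz1 : z ≠ 1 := by
    intro e
    subst e
    have h1 : Nat.card (Subgroup.centralizer ({y} : Set G)) ∣ Nat.card G := Subgroup.card_subgroup_dvd_card _
    have h2 : Nat.card (Subgroup.centralizer ({1} : Set G)) = Nat.card G := by
      rw [show Subgroup.centralizer ({1} : Set G) = ⊤ by
        ext g; simp [Subgroup.mem_centralizer_singleton_iff], Subgroup.card_top]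
    have h3 := Nat.card_congr eL.toEquiv
    rw [show Subgroup.normalizer (Subgroup.zpowers (1 : G) : Set G) = ⊤ by
      rw [eq_top_iff]; intro g _; exact mem_normalizer_of_conj _ fun x hx => by
        have hx1 : x = 1 := by simpa using hx
        simp [hx1], Subgroup.card_top, Nat.card_eq_fintype_card (α := L360), card_L360] at h3
    omega
  -- the first identification
  set N := Subgroup.normalizer (Subgroup.zpowers z : Set G) with hN
  have hzN : z ∈ N := Subgroup.le_normalizer (Subgroup.mem_zpowers z)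
  have hcN : ∀ g : G, (g * z * g⁻¹ = z ∨ g * z * g⁻¹ = z⁻¹) → g ∈ N := fun g hg => by
    refine mem_normalizer_of_conj _ fun x hx => ?_
    obtain ⟨k, rfl⟩ := Subgroup.mem_zpowers_iff.mp hx
    rw [← conj_zpow]
    rcases hg with e | e <;> rw [e]
    · exact zpow_mem (Subgroup.mem_zpowers z) k
    · exact zpow_mem (inv_mem (Subgroup.mem_zpowers z)) k
  let Φ0 : L360 →* G := N.subtype.comp eL.symm.toMonoidHom
  have hΦ0 : Function.Injective Φ0 := N.subtype_injective.comp eL.symm.injective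
  have hr0 : ∀ g, g ∈ Φ0.range ↔ g ∈ N := fun g =>
    ⟨fun ⟨a, e⟩ => e ▸ (eL.symm a).2, fun hg => ⟨eL ⟨g, hg⟩, by simp [Φ0]⟩⟩
  obtain ⟨k, hk⟩ := (hr0 z).mpr hzN
  have hk3 : k ^ 3 = 1 := hΦ0 (by rw [map_pow, hk, hz3, map_one])
  have hk1 : k ≠ 1 := fun e => hz1 (by rw [← hk, e, map_one])
  have hkc : k = mc ∨ k = mc⁻¹ := by
    refine normal_three k hk3 hk1 fun a => ?_
    have haN : Φ0 a ∈ N := (hr0 _).mp ⟨a, rfl⟩
    have hmem := (Subgroup.mem_normalizer_iff.mp haN z).mp (Subgroup.mem_zpowers z)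
    have e1 : Φ0 (a * k * a⁻¹) = Φ0 a * z * (Φ0 a)⁻¹ := by rw [map_mul, map_mul, map_inv, hk]
    rcases zpow_cases hz3 hmem with e | e | e
    · exact absurd (conj_eq_one_iff.mp e) hz1
    · exact Or.inl (hΦ0 (by rw [e1, e, hk]))
    · exact Or.inr (hΦ0 (by rw [e1, e, map_inv, hk]))
  obtain ⟨Φ1, hΦ1, hΦ1c, hr1⟩ : ∃ Φ1 : L360 →* G, Function.Injective Φ1 ∧ Φ1 mc = z ∧
      ∀ g, g ∈ Φ1.range ↔ g ∈ N := by
    rcases hkc with rfl | rfl
    · exact ⟨Φ0, hΦ0, hk, hr0⟩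
    · refine ⟨Φ0.comp (MulAut.conj mtz).toMonoidHom, hΦ0.comp (MulAut.conj mtz).injective, ?_, fun g => ?_⟩
      · simp only [MonoidHom.comp_apply, MulEquiv.coe_toMonoidHom, MulAut.conj_apply, tz_facts.1, hk]
      · rw [← hr0 g]
        exact ⟨fun ⟨a, e⟩ => ⟨_, e⟩, fun ⟨a, e⟩ => ⟨(MulAut.conj mtz).symm a, (congrArg Φ0 ((MulAut.conj mtz).apply_symm_apply a)).trans e⟩⟩
  have hDr : ∀ x ∈ D, x ∈ Φ1.range := fun x hx => (hr1 x).mpr (hcN x (Or.inl (by
    have := congrArg Subtype.val (hcomm.is_comm.comm ⟨x, hx⟩ ⟨z, hzD⟩)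
    simp only [Subgroup.coe_mul] at this
    rw [this]; group)))
  obtain ⟨ky, hky⟩ := hDr y hyD
  have hky3 : ky ^ 3 = 1 := hΦ1 (by rw [map_pow, hky, hexp y hyD, map_one])
  have hyz : y ∉ Subgroup.zpowers z := by
    intro hy
    have hle : D ≤ Subgroup.zpowers z := by
      rw [← hgen, Subgroup.closure_le]
      rintro x (rfl | rfl)
      · exact hy
      · exact Subgroup.mem_zpowers _
    have := Subgroup.card_le_of_le hle
    rw [hcard, Nat.card_zpowers, orderOf_eq_prime (p := 3) hz3 hz1] at this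
    omega
  have hkyc : ky * mc = mc * ky := hΦ1 (by
    rw [map_mul, map_mul, hky, hΦ1c]
    exact congrArg Subtype.val (hcomm.is_comm.comm ⟨y, hyD⟩ ⟨z, hzD⟩))
  obtain ⟨a, hac, l, hae⟩ := adjust ky hky3 hkyc
    (fun e => hyz (by rw [← hky, e, map_one]; exact one_mem _))
    (fun e => hyz (by rw [← hky, e, hΦ1c]; exact Subgroup.mem_zpowers _))
    (fun e => hyz (by rw [← hky, e, map_inv, hΦ1c]; exact inv_mem (Subgroup.mem_zpowers _)))
  set Φ : L360 →* G := Φ1.comp (MulAut.conj a).toMonoidHom with hΦdef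
  have hΦ : Function.Injective Φ := hΦ1.comp (MulAut.conj a).injective
  have hΦc : Φ mc = z := by
    simp only [hΦdef, MonoidHom.comp_apply, MulEquiv.coe_toMonoidHom, MulAut.conj_apply]
    rw [hac, mul_inv_cancel_right, hΦ1c]
  have hr : ∀ g, g ∈ Φ.range ↔ g ∈ N := fun g => by
    rw [← hr1 g]
    exact ⟨fun ⟨b, e⟩ => ⟨_, e⟩, fun ⟨b, e⟩ => ⟨(MulAut.conj a).symm b,
      (congrArg Φ1 ((MulAut.conj a).apply_symm_apply b)).trans e⟩⟩
  have hΦeD : Φ me ∈ D := by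
    simp only [hΦdef, MonoidHom.comp_apply, MulEquiv.coe_toMonoidHom, MulAut.conj_apply, hae, map_mul,
      map_pow, hΦ1c, hky]
    exact mul_mem (pow_mem hzD _) hyD
  have hDmem : ∀ x : L360, InD x → Φ x ∈ D := fun x hx => by
    obtain ⟨i, j, rfl⟩ := (inD_iff x).mp hx
    rw [map_mul, map_pow, map_pow, hΦc]
    exact mul_mem (pow_mem hzD _) (pow_mem hΦeD _)
  have hDimg : ∀ g ∈ D, ∃ x, InD x ∧ Φ x = g := by
    let f : {x : L360 // InD x} → D := fun x => ⟨Φ x.1, hDmem x.1 x.2⟩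
    have hf : Function.Bijective f := by
      refine (Nat.bijective_iff_injective_and_card f).mpr ⟨fun p q e => Subtype.ext (hΦ (congrArg Subtype.val e)), ?_⟩
      rw [hcard, Nat.card_eq_fintype_card, Fintype.card_subtype, inD_card]
    intro g hg
    obtain ⟨⟨x, hx⟩, e⟩ := hf.2 ⟨g, hg⟩
    exact ⟨x, hx, congrArg Subtype.val e⟩
  have czΦ : ∀ g, g * Φ mc = Φ mc * g → g ∈ Φ.range := fun g hg =>
    (hr g).mpr (hcN g (Or.inl (by rw [← hΦc, hg]; group)))
  have nzΦ : ∀ g, g * Φ mc * g⁻¹ = (Φ mc)⁻¹ → g ∈ Φ.range := fun g hg =>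
    (hr g).mpr (hcN g (Or.inr (by rw [← hΦc]; exact hg)))
  -- the normalizer of the Sylow subgroup
  set ND := Subgroup.normalizer (D : Set G) with hND
  have hND72 : Nat.card ND = 72 := by
    rw [Subgroup.card_eq_card_quotient_mul_card_subgroup (D.subgroupOf ND), Nat.card_congr eN.toEquiv,
      DihedralGroup.nat_card, Nat.card_congr (Subgroup.subgroupOfEquivOfLe (Subgroup.le_normalizer)).toEquiv,
      hcard]
  have hnorm : ∀ b : L360, InD (b * me * b⁻¹) → Φ b ∈ ND := fun b hb =>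
    mem_normalizer_of_conj _ fun x hx => by
      obtain ⟨x', hx', rfl⟩ := hDimg x hx
      rw [conj_map_of_conj Φ rfl]
      exact hDmem _ (normD_conj b hb x' hx')
  have hnorm' : ∀ b : L360, Φ b ∈ ND → InD (b * me * b⁻¹) := fun b hb => by
    obtain ⟨x, hx, e⟩ := hDimg _ ((Subgroup.mem_normalizer_iff.mp hb _).mp hΦeD)
    rw [conj_map_of_conj Φ rfl] at e
    exact hΦ e ▸ hx
  set K := Φ.range.subgroupOf ND with hK
  have hK36 : Nat.card K = 36 := by
    rw [← normD_card, ← Fintype.card_subtype, ← Nat.card_eq_fintype_card]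
    refine (Nat.card_eq_of_bijective
      (fun b : {b : L360 // InD (b * me * b⁻¹)} => (⟨⟨Φ b.1, hnorm b.1 b.2⟩, ⟨b.1, rfl⟩⟩ : K)) ⟨?_, ?_⟩).symm
    · exact fun p q e => Subtype.ext (hΦ (congrArg (fun r : K => (r.1 : G)) e))
    · rintro ⟨⟨g, hg⟩, hgr⟩
      obtain ⟨b, hb⟩ := (show g ∈ Φ.range from hgr)
      exact ⟨⟨b, hnorm' b (hb ▸ hg)⟩, Subtype.ext (Subtype.ext hb)⟩
  have hidx : K.index = 2 := by
    have := K.index_mul_card
    rw [hK36, hND72] at this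
    omega
  obtain ⟨g, hgN, hgK⟩ : ∃ g : ND, g ∈ (⊤ : Subgroup ND) ∧ g ∉ K := by
    refine SetLike.exists_of_lt (lt_top_iff_ne_top.mpr fun e => ?_)
    rw [e, Subgroup.index_top] at hidx
    omega
  have inK : ∀ n : ND, (n : G) * z * (n : G)⁻¹ = z ∨ (n : G) * z * (n : G)⁻¹ = z⁻¹ → n ∈ K := fun n hn =>
    show (n : G) ∈ Φ.range from (hr _).mpr (hcN _ hn)
  have actK : ∀ n : ND, n ∈ K → (n : G) * z * (n : G)⁻¹ = z ∨ (n : G) * z * (n : G)⁻¹ = z⁻¹ := fun n hn => by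
    obtain ⟨b, hb⟩ := (show (n : G) ∈ Φ.range from hn)
    rw [← hb, ← hΦc]
    rcases conj_mc b with e | e
    · exact Or.inl (conj_map_of_conj Φ e)
    · exact Or.inr (by rw [conj_map_of_conj Φ e, map_inv])
  have hgD : ∀ x ∈ D, (g : G) * x * (g : G)⁻¹ ∈ D := fun x hx => (Subgroup.mem_normalizer_iff.mp g.2 x).mp hx
  obtain ⟨x, hx, hxe⟩ := hDimg _ (hgD z hzD)
  have htz : InD (mtz * me * mtz⁻¹) ∧ InD (mtu * me * mtu⁻¹) := by
    rw [tz_facts.2.1, tz_facts.2.2.2.2.1]; decide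
  let t : ND := ⟨Φ mtz, hnorm _ htz.1⟩
  have hxax : mtz * x * mtz⁻¹ = x ∨ mtz * x * mtz⁻¹ = x⁻¹ := by
    have htK : t ∈ K := (⟨mtz, rfl⟩ : Φ mtz ∈ Φ.range)
    have hm : g⁻¹ * t * g ∈ K := by
      rw [Subgroup.mul_mem_iff_of_index_two hidx, Subgroup.mul_mem_iff_of_index_two hidx]
      simp [htK, hgK]
    have e0 : (t : G) * ((g : G) * z * (g : G)⁻¹) * (t : G)⁻¹ =
        (g : G) * ((↑(g⁻¹ * t * g) : G) * z * (↑(g⁻¹ * t * g) : G)⁻¹) * (g : G)⁻¹ := by
      simp only [Subgroup.coe_mul, Subgroup.coe_inv]; group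
    rcases actK _ hm with e | e <;> rw [e, ← hxe, conj_map_of_conj Φ rfl] at e0
    · exact Or.inl (hΦ e0)
    · refine Or.inr (hΦ (e0.trans ?_))
      rw [map_inv, hxe]; group
  have hxu : (g : G) * z * (g : G)⁻¹ = Φ me ∨ (g : G) * z * (g : G)⁻¹ = (Φ me)⁻¹ := by
    rcases axis x hx hxax with e | e | e | e | e <;> subst e
    · rw [map_one] at hxe; exact absurd (conj_eq_one_iff.mp hxe.symm) hz1
    · exact absurd (inK g (Or.inl (by rw [← hxe, hΦc]))) hgK
    · exact absurd (inK g (Or.inr (by rw [← hxe, map_inv, hΦc]))) hgK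
    · exact Or.inl hxe.symm
    · exact Or.inr (by rw [← hxe, map_inv])
  have hgu : (g : G) * Φ me * (g : G)⁻¹ = z ∨ (g : G) * Φ me * (g : G)⁻¹ = z⁻¹ := by
    have h2 := actK (g * g) (Subgroup.mul_self_mem_of_index_two hidx g)
    have e2 : (↑(g * g) : G) * z * (↑(g * g) : G)⁻¹ = (g : G) * ((g : G) * z * (g : G)⁻¹) * (g : G)⁻¹ := by
      simp only [Subgroup.coe_mul]; group
    rw [e2] at h2
    rcases hxu with e | e <;> rw [e] at h2
    · exact h2
    · have e3 : (g : G) * (Φ me)⁻¹ * (g : G)⁻¹ = ((g : G) * Φ me * (g : G)⁻¹)⁻¹ := by group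
      rw [e3, inv_eq_iff_eq_inv, inv_eq_iff_eq_inv, inv_inv] at h2
      exact h2.symm
  -- fix the signs
  obtain ⟨v, hvz, hvu⟩ : ∃ v : G, v * z * v⁻¹ = Φ me ∧ v * Φ me * v⁻¹ = z := by
    have hu : Φ mtu * z * (Φ mtu)⁻¹ = z ∧ Φ mtu * (Φ me)⁻¹ * (Φ mtu)⁻¹ = Φ me := by
      refine ⟨by rw [← hΦc, conj_map_of_conj Φ tz_facts.2.2.2.1], ?_⟩
      rw [← map_inv Φ me, conj_map_of_conj Φ rfl]
      exact congrArg Φ (by decide)
    have ht : Φ mtz * z⁻¹ * (Φ mtz)⁻¹ = z ∧ Φ mtz * Φ me * (Φ mtz)⁻¹ = Φ me := by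
      refine ⟨?_, conj_map_of_conj Φ tz_facts.2.1⟩
      rw [← hΦc, ← map_inv Φ mc, conj_map_of_conj Φ rfl]
      exact congrArg Φ (by decide)
    obtain ⟨v1, h1, h1'⟩ : ∃ v : G, v * z * v⁻¹ = Φ me ∧ (v * Φ me * v⁻¹ = z ∨ v * Φ me * v⁻¹ = z⁻¹) := by
      rcases hxu with e | e
      · exact ⟨g, e, hgu⟩
      · refine ⟨Φ mtu * g, ?_, ?_⟩
        · calc Φ mtu * g * z * (Φ mtu * g)⁻¹ = Φ mtu * ((g : G) * z * (g : G)⁻¹) * (Φ mtu)⁻¹ := by group
            _ = Φ me := by rw [e, hu.2]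
        · have e' : Φ mtu * g * Φ me * (Φ mtu * g)⁻¹ = Φ mtu * ((g : G) * Φ me * (g : G)⁻¹) * (Φ mtu)⁻¹ := by
            group
          rcases hgu with e2 | e2 <;> rw [e2] at e'
          · exact Or.inl (e'.trans hu.1)
          · refine Or.inr (e'.trans ?_)
            calc Φ mtu * z⁻¹ * (Φ mtu)⁻¹ = (Φ mtu * z * (Φ mtu)⁻¹)⁻¹ := by group
              _ = z⁻¹ := by rw [hu.1]
    rcases h1' with e | e
    · exact ⟨v1, h1, e⟩
    · refine ⟨Φ mtz * v1, ?_, ?_⟩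
      · calc Φ mtz * v1 * z * (Φ mtz * v1)⁻¹ = Φ mtz * (v1 * z * v1⁻¹) * (Φ mtz)⁻¹ := by group
          _ = Φ me := by rw [h1, ht.2]
      · calc Φ mtz * v1 * Φ me * (Φ mtz * v1)⁻¹ = Φ mtz * (v1 * Φ me * v1⁻¹) * (Φ mtz)⁻¹ := by group
          _ = z := by rw [e, ht.1]
  have hvswap : ∀ i j : Fin 3, v * Φ (mc ^ i.val * me ^ j.val) * v⁻¹ = Φ (mc ^ j.val * me ^ i.val) := by
    intro i j
    rw [map_mul, map_pow, map_pow, map_mul, map_pow, map_pow, hΦc, ← conj_mul, ← conj_pow, ← conj_pow,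
      hvz, hvu]
    have hce : Commute z (Φ me) := by
      rw [← hΦc]; exact (show Commute mc me from tz_facts.2.2.2.2.2.2.2).map Φ
    exact (hce.pow_pow _ _).symm.eq
  -- an involution exchanging the two subgroups
  have hv2D : v * v ∈ D := by
    rw [← hC, Subgroup.mem_centralizer_iff]
    intro q hq
    obtain ⟨q', hq', rfl⟩ := hDimg q hq
    obtain ⟨i, j, rfl⟩ := (inD_iff q').mp hq'
    have e : v * v * Φ (mc ^ i.val * me ^ j.val) * (v * v)⁻¹ = Φ (mc ^ i.val * me ^ j.val) := by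
      calc v * v * Φ (mc ^ i.val * me ^ j.val) * (v * v)⁻¹
          = v * (v * Φ (mc ^ i.val * me ^ j.val) * v⁻¹) * v⁻¹ := by group
        _ = _ := by rw [hvswap, hvswap]
    exact (mul_inv_eq_iff_eq_mul.mp e).symm
  obtain ⟨d, hd, hdv⟩ := hDimg _ hv2D
  obtain ⟨i, j, rfl⟩ := (inD_iff d).mp hd
  have hij : i = j := by
    refine fixed_swap i j (hΦ ?_)
    rw [← hvswap i j, hdv]; group
  subst hij
  obtain ⟨w0, hw2, hwz, hwu⟩ : ∃ w0 : G, w0 * w0 = 1 ∧ w0 * z * w0 = Φ me ∧ w0 * Φ me * w0 = z := by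
    set q := Φ (mc ^ i.val * me ^ i.val) with hq
    have hvq : Commute v q := by
      show v * q = q * v
      exact mul_inv_eq_iff_eq_mul.mp (hvswap i i)
    have hq3 : q ^ 3 = 1 := hexp q (hDmem _ hd)
    have hw : v * q * (v * q) = 1 := by
      rw [hvq.symm.mul_mul_mul_comm, ← hdv, ← hq3, pow_succ, pow_two, mul_assoc]
    refine ⟨v * q, hw, ?_, ?_⟩
    · rw [show v * q * z * (v * q) = v * q * z * (v * q)⁻¹ by rw [inv_eq_of_mul_eq_one_right hw]]
      calc v * q * z * (v * q)⁻¹ = v * (q * z * q⁻¹) * v⁻¹ := by group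
        _ = Φ me := by
          rw [show q * z * q⁻¹ = z by
            rw [mul_inv_eq_iff_eq_mul]
            exact congrArg Subtype.val (hcomm.is_comm.comm ⟨q, hDmem _ hd⟩ ⟨z, hzD⟩)]
          exact hvz
    · rw [show v * q * Φ me * (v * q) = v * q * Φ me * (v * q)⁻¹ by rw [inv_eq_of_mul_eq_one_right hw]]
      calc v * q * Φ me * (v * q)⁻¹ = v * (q * Φ me * q⁻¹) * v⁻¹ := by group
        _ = z := by
          rw [show q * Φ me * q⁻¹ = Φ me by
            rw [mul_inv_eq_iff_eq_mul]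
            exact congrArg Subtype.val (hcomm.is_comm.comm ⟨q, hDmem _ hd⟩ ⟨_, hΦeD⟩)]
          exact hvu
  -- the image of `t_z`
  have hwinv : w0⁻¹ = w0 := inv_eq_of_mul_eq_one_right hw2
  have hww : ∀ p q : G, w0 * (p * q) * w0 = w0 * p * w0 * (w0 * q * w0) := fun p q => by
    calc w0 * (p * q) * w0 = w0 * p * (1 * q) * w0 := by group
      _ = _ := by rw [← hw2]; group
  have hwi : ∀ p : G, (w0 * p * w0)⁻¹ = w0 * p⁻¹ * w0 := fun p => by
    rw [mul_inv_rev, mul_inv_rev, hwinv, mul_assoc]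
  obtain ⟨x', hx'⟩ : w0 * Φ mtz * w0 ∈ Φ.range := by
    refine czΦ _ ?_
    have e0 : Φ mtz * Φ me = Φ me * Φ mtz := by rw [← map_mul, ← map_mul]; exact congrArg Φ (by decide)
    rw [hΦc, ← hwu, ← hww, ← hww, e0]
  have hx'c : x' * mc = mc * x' := hΦ (by
    have e0 : Φ mtz * Φ me = Φ me * Φ mtz := by rw [← map_mul, ← map_mul]; exact congrArg Φ (by decide)
    rw [map_mul, map_mul, hx', hΦc, ← hwu, ← hww, ← hww, e0])
  have hx'e : x' * me * x'⁻¹ = me⁻¹ := hΦ (by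
    rw [map_mul, map_mul, map_inv, hx', ← hwz, hwi, ← hww, ← hww]
    rw [show Φ mtz * z * (Φ mtz)⁻¹ = Φ mc⁻¹ by rw [← hΦc]; exact conj_map_of_conj Φ tz_facts.1]
    rw [map_inv, map_inv, hΦc, ← hwz, hwi])
  have hx'2 : x' * x' = 1 := hΦ (by
    rw [map_mul, hx', ← hww, ← map_mul, tz_facts.2.2.1, map_one, mul_one, hw2])
  obtain ⟨i', rfl⟩ := tu_form x' hx'c hx'e hx'2
  set e₂ := Φ (me ^ (2 * i'.val)) with he₂
  set c₂ := Φ (mc ^ (2 * i'.val)) with hc₂
  have hce₂ : Commute c₂ e₂ :=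
    (((show Commute mc me from tz_facts.2.2.2.2.2.2.2).pow_pow _ _).map Φ)
  have hw2e : w0 * e₂ * w0 = c₂ := by
    rw [he₂, hc₂, map_pow, map_pow, hΦc, ← hwu]
    conv_lhs => rw [show w0 * Φ me ^ (2 * i'.val) * w0 = w0 * Φ me ^ (2 * i'.val) * w0⁻¹ by rw [hwinv]]
    rw [← conj_pow, hwinv]
  have hw2c : w0 * c₂ * w0 = e₂ := by
    rw [← hw2e]
    calc w0 * (w0 * e₂ * w0) * w0 = (w0 * w0) * e₂ * (w0 * w0) := by group
      _ = e₂ := by rw [hw2]; simp
  set w := (e₂ * c₂⁻¹) * w0 with hwdef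
  have hw'2 : w * w = 1 := by
    rw [hwdef]
    calc e₂ * c₂⁻¹ * w0 * (e₂ * c₂⁻¹ * w0) = e₂ * c₂⁻¹ * (w0 * (e₂ * c₂⁻¹) * w0) := by group
      _ = e₂ * c₂⁻¹ * (c₂ * e₂⁻¹) := by rw [hww, hw2e, ← hwi, hw2c]
      _ = 1 := by group
  have hwc : w * Φ mc * w = Φ me := by
    rw [show w * Φ mc * w = w * Φ mc * w⁻¹ by rw [inv_eq_of_mul_eq_one_right hw'2], hwdef, hΦc]
    calc e₂ * c₂⁻¹ * w0 * z * (e₂ * c₂⁻¹ * w0)⁻¹
        = (e₂ * c₂⁻¹) * (w0 * z * w0⁻¹) * (e₂ * c₂⁻¹)⁻¹ := by group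
      _ = Φ me := by
        rw [hwinv, hwz, he₂, hc₂, ← map_inv, ← map_mul]
        refine conj_map_of_conj Φ ?_
        rw [mul_inv_eq_iff_eq_mul]
        exact (((Commute.refl me).pow_left _).mul_left
          (((show Commute mc me from tz_facts.2.2.2.2.2.2.2).pow_left _).inv_left)).eq
  have hwtz : w * Φ mtz * w = Φ mtu := by
    have hrev : w = w0 * (c₂ * e₂⁻¹) := by
      rw [← inv_eq_of_mul_eq_one_right hw'2, hwdef, mul_inv_rev, mul_inv_rev, inv_inv, hwinv]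
    nth_rewrite 2 [hrev]
    rw [hwdef]
    calc e₂ * c₂⁻¹ * w0 * Φ mtz * (w0 * (c₂ * e₂⁻¹))
        = e₂ * (c₂⁻¹ * (w0 * Φ mtz * w0) * c₂) * e₂⁻¹ := by group
      _ = Φ mtu := by
        rw [← hx', hc₂, ← map_inv, ← map_mul, ← map_mul,
          tu_comm i']
        exact conj_map_of_conj Φ (tu_fix i')
  have hwe : w * Φ me * w = Φ mc := by
    rw [← hwc]
    calc w * (w * Φ mc * w) * w = (w * w) * Φ mc * (w * w) := by group
      _ = _ := by rw [hw'2]; simp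
  have hwwinv : w⁻¹ = w := inv_eq_of_mul_eq_one_right hw'2
  have hwD : w ∈ ND := mem_normalizer_of_conj _ fun p hp => by
    obtain ⟨p', hp', rfl⟩ := hDimg p hp
    obtain ⟨k1, k2, rfl⟩ := (inD_iff p').mp hp'
    rw [map_mul, map_pow, map_pow, ← conj_mul, ← conj_pow, ← conj_pow, hwwinv, hwc, hwe]
    exact mul_mem (pow_mem hΦeD _) (pow_mem (hΦc ▸ hzD) _)
  have hwK : (⟨w, hwD⟩ : ND) ∉ K := by
    intro hk
    rcases actK _ hk with e | e <;> simp only [hwwinv, ← hΦc, hwc] at e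
    · exact absurd (hΦ e) (by decide)
    · rw [← map_inv] at e; exact absurd (hΦ e) (by decide)
  refine ⟨Φ, w, hΦ, czΦ, nzΦ, hw'2, hwc, hwtz, ?_, ?_, ?_⟩
  · -- the centralizer of `c e`
    obtain ⟨ky', hky', hyΦ⟩ := hDimg y hyD
    have hky1 : ky' ≠ 1 := fun e => hyz (by rw [← hyΦ, e, map_one]; exact one_mem _)
    have hY : IsY ky' := by
      by_contra hn
      have hu180 : Nat.card (Subgroup.centralizer ({Φ me} : Set G)) = 180 := by
        rw [card_centralizer_of_isConj (isConj_iff.mpr ⟨w, by rw [hwwinv, hwc]⟩ : IsConj (Φ mc) (Φ me)),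
          hΦc, hCz]
      rw [← hyΦ] at hycard
      rcases not_isY ky' hky' hky1 hn with e | e | e | e <;> subst e <;>
        simp only [map_inv, card_centralizer_inv, hΦc, hCz, hu180] at hycard <;> omega
    obtain ⟨tt, -, htt⟩ := yType ky' hky' hY
    have h18 : Nat.card (Subgroup.centralizer ({Φ (mc * me)} : Set G)) = 18 := by
      rw [card_centralizer_of_isConj (isConj_iff.mpr ⟨Φ tt, conj_map_of_conj Φ htt⟩ : IsConj (Φ ky') (Φ (mc * me))),
        hyΦ, hycard]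
    have hwy : w * Φ (mc * me) = Φ (mc * me) * w := by
      have hwy' : w * Φ (mc * me) * w⁻¹ = Φ (mc * me) := by
        rw [map_mul, ← conj_mul, hwwinv, hwc, hwe, ← map_mul, ← map_mul, tz_facts.2.2.2.2.2.2.2]
      exact mul_inv_eq_iff_eq_mul.mp hwy'
    let f : {d : L360 // InD d} × Bool → Subgroup.centralizer ({Φ (mc * me)} : Set G) := fun p =>
      ⟨if p.2 then Φ p.1.1 * w else Φ p.1.1, by
        rw [Subgroup.mem_centralizer_singleton_iff]
        have h0 : Φ p.1.1 * Φ (mc * me) = Φ (mc * me) * Φ p.1.1 := by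
          rw [← map_mul, ← map_mul]
          refine congrArg Φ ?_
          obtain ⟨⟨d, hd1, hd2, -⟩, -⟩ := p
          exact ((show Commute d mc from hd1).mul_right hd2).eq
        split
        · rw [mul_assoc, hwy, ← mul_assoc, h0, mul_assoc]
        · exact h0⟩
    have hf : Function.Bijective f := by
      refine (Nat.bijective_iff_injective_and_card f).mpr ⟨?_, ?_⟩
      · rintro ⟨⟨d, hd'⟩, b⟩ ⟨⟨d', hd''⟩, b'⟩ e
        have e' := congrArg Subtype.val e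
        have key : ∀ p q : L360, Φ p * w ≠ Φ q := fun p q e1 => hwK (by
          show w ∈ Φ.range
          exact ⟨p⁻¹ * q, by rw [map_mul, map_inv, ← e1, inv_mul_cancel_left]⟩)
        cases b <;> cases b' <;> simp [f] at e' ⊢
        · exact hΦ e'
        · exact absurd e'.symm (key _ _)
        · exact absurd e' (key _ _)
        · exact hΦ e'
      · rw [h18, Nat.card_prod, Nat.card_eq_fintype_card, Fintype.card_subtype, inD_card,
          Nat.card_eq_fintype_card, Fintype.card_bool]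
    intro p hp
    obtain ⟨⟨⟨d, hd'⟩, b⟩, e⟩ := hf.2 ⟨p, Subgroup.mem_centralizer_singleton_iff.mpr hp⟩
    refine ⟨d, hd', ?_⟩
    have e' : (f (⟨d, hd'⟩, b) : G) = p := congrArg Subtype.val e
    cases b <;> simp [f] at e'
    · exact Or.inl e'.symm
    · exact Or.inr e'.symm
  · -- the normalizer
    intro p hp
    have hpN : p ∈ ND := mem_normalizer_of_conj _ fun q hq => by
      obtain ⟨q', hq', rfl⟩ := hDimg q hq
      obtain ⟨r, hr', e⟩ := hp q' hq'
      exact e ▸ hDmem r hr'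
    by_cases hpK : (⟨p, hpN⟩ : ND) ∈ K
    · obtain ⟨b, hb⟩ := (show p ∈ Φ.range from hpK)
      exact ⟨b, hnorm' b (hb ▸ hpN), Or.inl hb.symm⟩
    · have hm : (⟨p, hpN⟩ : ND) * ⟨w, hwD⟩ ∈ K := by
        rw [Subgroup.mul_mem_iff_of_index_two hidx]
        exact iff_of_false hpK hwK
      obtain ⟨b, hb⟩ := (show p * w ∈ Φ.range from hm)
      refine ⟨b, hnorm' b (hb ▸ mul_mem hpN hwD), Or.inr ?_⟩
      rw [hb, mul_assoc, hw'2, mul_one]
  · -- Sylow
    intro H hH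
    obtain ⟨Q, hQ⟩ := hH.exists_le_sylow
    obtain ⟨p, hp⟩ := MulAction.exists_smul_eq G Q P
    refine ⟨p, fun q hq => ?_⟩
    have hmem : p * q * p⁻¹ ∈ D := by
      rw [hDP, ← hp]
      exact ⟨q, hQ hq, rfl⟩
    obtain ⟨r, hr', e⟩ := hDimg _ hmem
    exact ⟨r, hr', e.symm⟩

end Construct

end CfsgLib.AEightLocal
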