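import Mathlib

/-!
The subgroup of index two of `Sym(3) × Sym(5)` of the pairs with equal signs, and the finite facts
about it that are used for the recognition of `A₈` by its 3-local structure.
-/

set_option autoImplicit false

namespace CfsgLib.AEightLocal

open Equiv

/-- The pairs of permutations of `3` and `5` points with equal signs. -/
abbrev L360 :=
  (((Equiv.Perm.sign).comp (MonoidHom.fst (Equiv.Perm (Fin 3)) (Equiv.Perm (Fin 5)))) *
    ((Equiv.Perm.sign).comp (MonoidHom.snd (Equiv.Perm (Fin 3)) (Equiv.Perm (Fin 5))))).ker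

instance instDecidableEqL360 : DecidableEq L360 := fun a b =>
  decidable_of_iff (a.1 = b.1) Subtype.ext_iff.symm

instance instFintypeL360 : Fintype L360 :=
  Fintype.ofFinset (Finset.univ.filter fun p => Perm.sign p.1 * Perm.sign p.2 = 1) fun p => by
    simp only [Finset.mem_filter, Finset.mem_univ, true_and]
    rfl

set_option synthInstance.maxSize 2000
set_option synthInstance.maxHeartbeats 400000

def mc : L360 := ⟨(swap 0 1 * swap 1 2, 1), by decide⟩

def me : L360 := ⟨(1, swap 2 3 * swap 3 4), by decide⟩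

def mtz : L360 := ⟨(swap 0 1, swap 0 1), by decide⟩

def mtu : L360 := ⟨(1, swap 0 1 * swap 2 3), by decide⟩

/-- The five-cycle. -/
def mf : L360 := ⟨(1, swap 0 1 * swap 1 2 * swap 2 3 * swap 3 4), by decide⟩

/-- The elementary abelian subgroup of order nine. -/
abbrev InD (x : L360) : Prop := x * mc = mc * x ∧ x * me = me * x ∧ x ^ 3 = 1

/-- An element of order three moving points on both sides. -/
abbrev IsY (x : L360) : Prop := x.1.1 ≠ 1 ∧ x.1.2 ≠ 1

theorem card_L360 : Fintype.card L360 = 360 := by decide +kernel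

theorem mc_mc : mc ^ 3 = 1 ∧ mc ≠ 1 := by decide +kernel

theorem me_me : me ^ 3 = 1 ∧ me ≠ 1 := by decide +kernel

theorem normal_three : ∀ k : L360, k ^ 3 = 1 → k ≠ 1 →
    (∀ a : L360, a * k * a⁻¹ = k ∨ a * k * a⁻¹ = k⁻¹) → k = mc ∨ k = mc⁻¹ := by decide +kernel

theorem conj_mc : ∀ a : L360, a * mc * a⁻¹ = mc ∨ a * mc * a⁻¹ = mc⁻¹ := by decide +kernel

theorem tz_facts : mtz * mc * mtz⁻¹ = mc⁻¹ ∧ mtz * me * mtz⁻¹ = me ∧ mtz * mtz = 1 ∧
    mtu * mc * mtu⁻¹ = mc ∧ mtu * me * mtu⁻¹ = me⁻¹ ∧ mtu * mtu = 1 ∧ mtz * mtu = mtu * mtz ∧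
    mc * me = me * mc := by decide +kernel

theorem adjust : ∀ k : L360, k ^ 3 = 1 → k * mc = mc * k → k ≠ 1 → k ≠ mc → k ≠ mc⁻¹ →
    ∃ a : L360, a * mc = mc * a ∧ ∃ l : Fin 3, a * me * a⁻¹ = mc ^ l.val * k := by decide +kernel

theorem inD_iff : ∀ x : L360, InD x ↔ ∃ i j : Fin 3, x = mc ^ i.val * me ^ j.val := by decide +kernel

theorem inD_inj : ∀ i j i' j' : Fin 3,
    mc ^ i.val * me ^ j.val = mc ^ i'.val * me ^ j'.val → i = i' ∧ j = j' := by decide +kernel

theorem inD_card : (Finset.univ.filter fun x : L360 => InD x).card = 9 := by decide +kernel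

theorem normD_card : (Finset.univ.filter fun a : L360 => InD (a * me * a⁻¹)).card = 36 := by
  decide +kernel

theorem normD_conj : ∀ a : L360, InD (a * me * a⁻¹) → ∀ x, InD x → InD (a * x * a⁻¹) := by
  decide +kernel

theorem axis : ∀ x : L360, InD x → (mtz * x * mtz⁻¹ = x ∨ mtz * x * mtz⁻¹ = x⁻¹) →
    x = 1 ∨ x = mc ∨ x = mc⁻¹ ∨ x = me ∨ x = me⁻¹ := by decide +kernel

theorem fixed_swap : ∀ i j : Fin 3, mc ^ j.val * me ^ i.val = mc ^ i.val * me ^ j.val → i = j := by
  decide +kernel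

theorem tu_form : ∀ x : L360, x * mc = mc * x → x * me * x⁻¹ = me⁻¹ → x * x = 1 →
    ∃ i : Fin 3, x = mtu * me ^ i.val := by decide +kernel

theorem tu_fix : ∀ i : Fin 3,
    me ^ (2 * i.val) * (mtu * me ^ i.val) * (me ^ (2 * i.val))⁻¹ = mtu := by decide +kernel

theorem yType : ∀ x : L360, InD x → IsY x → ∃ t : L360, InD (t * me * t⁻¹) ∧
    t * x * t⁻¹ = mc * me := by decide +kernel

theorem not_isY : ∀ x : L360, InD x → x ≠ 1 → ¬ IsY x →
    x = mc ∨ x = mc⁻¹ ∨ x = me ∨ x = me⁻¹ := by decide +kernel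

theorem class_three : ∀ x : L360, x ^ 3 = 1 → x ≠ 1 → ∃ a : L360,
    (IsY x ∧ a * x * a⁻¹ = mc * me) ∨ (¬ IsY x ∧ (a * x * a⁻¹ = mc ∨ a * x * a⁻¹ = me)) := by
  decide +kernel

/-- Representatives for the four classes with three-part `mc`. -/
def czr : Fin 4 → L360 := ![mc, mc * mtu, mc * mf, mc * mf ^ 2]

theorem cz_pow : ∀ k, czr k ^ 10 = mc := by decide +kernel

theorem cz_centralizer : ∀ k,
    (Finset.univ.filter fun a : L360 => a * czr k = czr k * a).card = ![180, 12, 15, 15] k := by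
  decide +kernel

theorem cz_not_conj : ∀ a : L360, ∀ k l, k ≠ l → a * mc = mc * a → a * czr k * a⁻¹ ≠ czr l := by
  decide +kernel

theorem cz_inv : ∀ k, ∃ a : L360, a * czr k * a⁻¹ = (czr (![0, 1, 3, 2] k))⁻¹ := by decide +kernel

/-! ### The subgroup `C₃ × A₅` -/

/-- The rotation of three points. -/
def rot : Multiplicative (ZMod 3) →* Perm (Fin 3) where
  toFun k := (swap 0 1 * swap 1 2) ^ k.toAdd.val
  map_one' := by decide
  map_mul' := by decide

/-- The inclusion of `C₃ × A₅`. -/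
def emb : Multiplicative (ZMod 3) × alternatingGroup (Fin 5) →* L360 :=
  (rot.prodMap (alternatingGroup (Fin 5)).subtype).codRestrict _ fun p => by
    have h1 : Perm.sign (rot p.1) = 1 := by
      generalize p.1 = k
      revert k
      decide
    have h2 : Perm.sign (p.2 : Perm (Fin 5)) = 1 := Equiv.Perm.mem_alternatingGroup.mp p.2.2
    show Perm.sign (rot p.1) * Perm.sign (p.2 : Perm (Fin 5)) = 1
    rw [h1, h2, one_mul]

/-- Representatives of the classes of `A₅`. -/
def rep5 : Fin 5 → alternatingGroup (Fin 5) :=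
  ![1, ⟨swap 0 1 * swap 2 3, Equiv.Perm.mem_alternatingGroup.mpr (by decide)⟩, ⟨swap 2 3 * swap 3 4, Equiv.Perm.mem_alternatingGroup.mpr (by decide)⟩,
    ⟨swap 0 1 * swap 1 2 * swap 2 3 * swap 3 4, Equiv.Perm.mem_alternatingGroup.mpr (by decide)⟩,
    ⟨(swap 0 1 * swap 1 2 * swap 2 3 * swap 3 4) ^ 2, Equiv.Perm.mem_alternatingGroup.mpr (by decide)⟩]

/-- The class of an element of `A₅`. -/
def kind5 (a : alternatingGroup (Fin 5)) : Fin 5 :=
  if a = 1 then 0 else if a * a = 1 then 1 else if a * a * a = 1 then 2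
    else if ∃ b, b * rep5 3 * b⁻¹ = a then 3 else 4

theorem kind5_spec : ∀ a, ∃ b, b * rep5 (kind5 a) * b⁻¹ = a := by decide +kernel

theorem kind5_card : ∀ j,
    (Finset.univ.filter fun a => kind5 a = j).card = ![1, 15, 20, 12, 12] j := by decide +kernel

/-- The representatives in `L360` of the classes met by `C₃ × A₅`. -/
def repCA : Fin 3 → Fin 5 → L360 :=
  ![![1, mtu, me, mf, mf], ![mc, mc * mtu, mc * me, mc * mf, mc * mf ^ 2],
    ![mc, mc * mtu, mc * me, mc * mf ^ 2, mc * mf]]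

theorem emb_rep : ∀ (k : Fin 3) (j : Fin 5), ∃ a : L360,
    a * emb (Multiplicative.ofAdd (k.val : ZMod 3), rep5 j) * a⁻¹ = repCA k j := by decide +kernel

theorem rep5_fixed : ∀ j : Fin 5,
    (Finset.univ.filter fun x => (rep5 j : Perm (Fin 5)) x = x).card = ![5, 1, 2, 0, 0] j ∧
    (Finset.univ.filter fun x => (rep5 j : Perm (Fin 5)) ((rep5 j : Perm (Fin 5)) x) = x ∧
      (rep5 j : Perm (Fin 5)) x ≠ x).card = ![0, 4, 0, 0, 0] j := by decide +kernel

/-! ### The cyclic subgroup of order fifteen -/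

/-- `c^k f^l`. -/
def cf (k : ZMod 3) (l : ZMod 5) : L360 := mc ^ k.val * mf ^ l.val

theorem cf_mul : ∀ k l k' l', cf (k + k') (l + l') = cf k l * cf k' l' := by decide +kernel

theorem cf_zero : cf 0 0 = 1 := by decide +kernel

/-- The representatives of the classes met by the subgroup of order fifteen. -/
def repCF : Fin 3 → Fin 5 → L360 :=
  ![![1, mf, mf, mf, mf], ![mc, mc * mf, mc * mf ^ 2, mc * mf ^ 2, mc * mf],
    ![mc, mc * mf ^ 2, mc * mf, mc * mf, mc * mf ^ 2]]

theorem cf_rep : ∀ (k : Fin 3) (l : Fin 5), ∃ a : L360,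
    a * cf (k.val : ZMod 3) (l.val : ZMod 5) * a⁻¹ = repCF k l := by decide +kernel

/-! ### Products of elements of order three equal to `c e` -/

/-- First factors of products `y z = ce` inside the centralizer of `c`. -/
def setY : Finset L360 := Finset.univ.filter fun x =>
  x * mc = mc * x ∧ x ^ 3 = 1 ∧ IsY x ∧ (x⁻¹ * (mc * me)) ^ 3 = 1 ∧ x⁻¹ * (mc * me) ≠ 1 ∧
    ¬ IsY (x⁻¹ * (mc * me))

/-- First factors of products `z z' = ce` inside the centralizer of `c`. -/
def setZ : Finset L360 := Finset.univ.filter fun x =>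
  x * mc = mc * x ∧ x ^ 3 = 1 ∧ x ≠ 1 ∧ ¬ IsY x ∧ (x⁻¹ * (mc * me)) ^ 3 = 1 ∧
    x⁻¹ * (mc * me) ≠ 1 ∧ ¬ IsY (x⁻¹ * (mc * me))

theorem setY_card : setY.card = 8 ∧ (setY.filter fun x => ¬ InD x).card = 6 := by decide +kernel

theorem setY_swap : ∀ i j : Fin 3, mc ^ i.val * me ^ j.val ∈ setY → mc ^ j.val * me ^ i.val ∈ setY := by
  decide +kernel

theorem setZ_card : setZ.card = 2 := by decide +kernel

theorem setZ_inD : ∀ x ∈ setZ, InD x := by decide +kernel

theorem setZ_swap : ∀ i j : Fin 3, mc ^ i.val * me ^ j.val ∈ setZ → mc ^ j.val * me ^ i.val ∈ setZ := by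
  decide +kernel

theorem y_in_centralizer : ∀ x : L360, InD x → x ≠ 1 → IsY x → x * mc = mc * x := fun _ h _ _ => h.1

theorem inD_conj_card : ∀ x : L360, InD x → x ≠ 1 →
    (Finset.univ.filter fun k : L360 => InD k ∧ k ≠ 1 ∧ (IsY k ↔ IsY x)).card = 4 := by decide +kernel

end CfsgLib.AEightLocal
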