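import Cfsg.Agent.Lib.AEightLocal.Classes
import Cfsg.Agent.Lib.SmallGroups.NineLocal.Basic
import Mathlib

/-!
The class multiplication coefficients `y z → y` and `z z → y`: three elements of order three with
product one that are not all conjugate commute with a common element of order three.
-/

set_option autoImplicit false

namespace CfsgLib.AEightLocal

open CfsgLib.SmallGroups.NineLocal (isConj_of_norm)

universe u

variable {G : Type u} [Group G] {Φ : L360 →* G} {w : G}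

theorem inD_comm : ∀ x : L360, InD x → ∀ y : L360, InD y → x * y = y * x := by decide +kernel

theorem three_comm_Y : ∀ d : L360, InD d → IsY d → ∀ x : L360, x ^ 3 = 1 → x * d = d * x → InD x := by
  decide +kernel

theorem isPGroup_zpowers {x : G} (hx : x ^ 3 = 1) : IsPGroup 3 (Subgroup.zpowers x) := by
  intro g
  refine ⟨1, ?_⟩
  obtain ⟨i, hi⟩ := g.2
  ext
  simp only [SubgroupClass.coe_pow, OneMemClass.coe_one, ← hi]
  rw [pow_one, ← zpow_natCast, ← zpow_mul, mul_comm, zpow_mul, zpow_natCast, hx, one_zpow]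

namespace Loc

variable [Finite G] (h : Loc Φ w)
include h

/-- An element of order three mapped by an element of order three to a commuting conjugate, with
product of the three conjugates one, is fixed. -/
theorem fix_three {p r : G} (hp : p ^ 3 = 1) (hr : r ^ 3 = 1) (hc : Commute r (p * r * p⁻¹))
    (h2 : p * (p * r * p⁻¹) * p⁻¹ = (p * r * p⁻¹)⁻¹ * r⁻¹) : Commute p r := by
  set r' := p * r * p⁻¹ with hr'
  have hr'3 : r' ^ 3 = 1 := by rw [hr', conj_pow, hr]; simp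
  set R := Subgroup.zpowers r ⊔ Subgroup.zpowers r' with hR
  have hle : Subgroup.zpowers r ≤ Subgroup.normalizer (Subgroup.zpowers r' : Set G) := by
    rw [Subgroup.zpowers_le]
    refine mem_normalizer_of_conj _ fun x hx => ?_
    obtain ⟨i, rfl⟩ := Subgroup.mem_zpowers_iff.mp hx
    rw [← conj_zpow, hc.eq, mul_inv_cancel_right]
    exact zpow_mem (Subgroup.mem_zpowers r') i
  have hRp : IsPGroup 3 R := (isPGroup_zpowers hr).to_sup_of_normal_right' (isPGroup_zpowers hr'3) hle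
  have hrR : r ∈ R := Subgroup.mem_sup_left (Subgroup.mem_zpowers r)
  have hr'R : r' ∈ R := Subgroup.mem_sup_right (Subgroup.mem_zpowers r')
  have hN : Subgroup.zpowers p ≤ Subgroup.normalizer (R : Set G) := by
    rw [Subgroup.zpowers_le]
    refine mem_normalizer_of_conj _ fun x hx => ?_
    have hmap : R.map (MulAut.conj p).toMonoidHom ≤ R := by
      rw [hR, Subgroup.map_sup, MonoidHom.map_zpowers, MonoidHom.map_zpowers, sup_le_iff,
        Subgroup.zpowers_le, Subgroup.zpowers_le]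
      simp only [MulEquiv.coe_toMonoidHom, MulAut.conj_apply]
      exact ⟨hr'R, h2 ▸ mul_mem (inv_mem hr'R) (inv_mem hrR)⟩
    exact hmap ⟨x, hx, rfl⟩
  obtain ⟨g, hg⟩ := h.syl _ ((isPGroup_zpowers hp).to_sup_of_normal_right' hRp hN)
  obtain ⟨d, hd, ed⟩ := hg p (Subgroup.mem_sup_left (Subgroup.mem_zpowers p))
  obtain ⟨d', hd', ed'⟩ := hg r (Subgroup.mem_sup_right hrR)
  refine (Commute.conj_iff g).mp ?_
  rw [ed, ed']
  exact (show Commute d d' from inD_comm d hd d' hd').map Φ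

/-- Three elements of order three with product one which are not all conjugate. -/
theorem common_three {v x : G} (hv : v ^ 3 = 1) (hx : x ^ 3 = 1) (hvx : (v * x) ^ 3 = 1)
    (hne : ¬ (IsConj v x ∧ IsConj v⁻¹ (v * x))) :
    ∃ r : G, r ^ 3 = 1 ∧ r ≠ 1 ∧ Commute r v ∧ Commute r x := by
  have hv' : v * v * v = 1 := by rw [← hv, pow_succ, pow_two]
  have hx' : x * x * x = 1 := by rw [← hx, pow_succ, pow_two]
  have hvi : v⁻¹ = v * v := (eq_inv_of_mul_eq_one_left hv').symm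
  have hxi : x⁻¹ = x * x := (eq_inv_of_mul_eq_one_left hx').symm
  set a := v⁻¹ * x with hadef
  set b := v * a * v⁻¹ with hbdef
  set c := v * b * v⁻¹ with hcdef
  have hb : b = x * v⁻¹ := by rw [hbdef, hadef]; group
  have hc : c = v * x * v := by
    rw [hcdef, hb]
    calc v * (x * v⁻¹) * v⁻¹ = v * x * (v⁻¹ * v⁻¹) := by group
      _ = v * x * v := by rw [← mul_inv_rev, ← hvi, inv_inv]
  have hac : a = v * c * v⁻¹ := by
    rw [hc, hadef, hvi]
    calc v * v * x = v * v * x * (v * v * v) * (v * v * v)⁻¹ := by group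
      _ = v * v * x * (v * v * v) := by rw [hv', inv_one, mul_one]
      _ = v * (v * x * v) * (v * v) := by group
  have habc : a * b * c = 1 := by
    rw [hadef, hb, hc]
    calc v⁻¹ * x * (x * v⁻¹) * (v * x * v) = v⁻¹ * (x * x * x) * v := by group
      _ = 1 := by rw [hx']; group
  have hab : Commute a b := by
    show a * b = b * a
    rw [hadef, hb]
    have e : v * x * v * x * v * x = 1 := by rw [← hvx, pow_succ, pow_two]; group
    calc v⁻¹ * x * (x * v⁻¹) = v⁻¹ * (x * x) * v⁻¹ := by group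
      _ = v⁻¹ * x⁻¹ * v⁻¹ := by rw [← hxi]
      _ = v⁻¹ * x⁻¹ * v⁻¹ * (v * x * v * x * v * x) := by rw [e, mul_one]
      _ = x * v * x := by group
      _ = x * (v⁻¹ * v⁻¹) * x := by rw [← mul_inv_rev, ← hvi, inv_inv]
      _ = x * v⁻¹ * (v⁻¹ * x) := by group
  have hcab : c = b⁻¹ * a⁻¹ := by rw [← mul_inv_rev]; exact eq_inv_of_mul_eq_one_right habc
  by_cases hd : 3 ∣ orderOf a
  · obtain ⟨m, hm⟩ := hd
    set r := a ^ m with hr
    have hr3 : r ^ 3 = 1 := by rw [hr, ← pow_mul, mul_comm, ← hm, pow_orderOf_eq_one]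
    have hr1 : r ≠ 1 := by
      intro e
      rw [hr, ← orderOf_dvd_iff_pow_eq_one, hm] at e
      have hm0 : 0 < m := by
        have := orderOf_pos a
        omega
      have := Nat.le_of_dvd hm0 e
      omega
    have hfix : Commute v r := by
      refine h.fix_three hv hr3 ?_ ?_
      · rw [hr, ← conj_pow, ← hbdef]; exact hab.pow_pow _ _
      · rw [hr, ← conj_pow, ← hbdef, ← conj_pow, ← hcdef, hcab, (hab.inv_inv).symm.mul_pow, inv_pow, inv_pow]
    refine ⟨r, hr3, hr1, hfix.symm, ?_⟩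
    have : Commute r (v * a) := hfix.symm.mul_right ((Commute.refl a).pow_left m)
    rwa [hadef, mul_inv_cancel_left] at this
  · exfalso
    obtain ⟨k, hk⟩ : ∃ k : ℕ, (a ^ 3) ^ k = a := by
      obtain ⟨k, hk⟩ := exists_pow_eq_self_of_coprime (x := a) (n := 3)
        ((Nat.Prime.coprime_iff_not_dvd Nat.prime_three).mpr hd)
      exact ⟨k, hk⟩
    refine hne ⟨?_, ?_⟩
    · have := isConj_of_norm hbdef hcdef hac hab habc ⟨k, hk⟩
      rwa [hadef, mul_inv_cancel_left] at this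
    · have hca : Commute a c := by
        rw [hcab]
        exact hab.inv_right.mul_right (Commute.refl a).inv_right
      have := isConj_of_norm (v := v⁻¹) (a := a) (b := c) (c := b)
        (by rw [hac]; group) (by rw [hcdef]; group) (by rw [hbdef]; group) hca
        (by
          calc a * c * b = c * (a * b) := by rw [hca.eq, mul_assoc]
            _ = 1 := by rw [eq_inv_of_mul_eq_one_right habc]; group)
        ⟨k, hk⟩
      rwa [hadef, show v⁻¹ * (v⁻¹ * x) = v * x by rw [← mul_assoc, ← mul_inv_rev, ← hvi, inv_inv]] at this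

/-- Factors of `y` with a common centralizing element of order three commute with `z` or with `u`. -/
theorem factor_local {p q : G} (hp : p ^ 3 = 1) (hq : q ^ 3 = 1) (hpq : p * q = Φ (mc * me))
    (hne : ¬ (IsConj p q ∧ IsConj p⁻¹ (p * q))) :
    (Commute p (Φ mc) ∧ Commute q (Φ mc)) ∨ (Commute p (Φ me) ∧ Commute q (Φ me)) := by
  obtain ⟨r, hr3, hr1, hrp, hrq⟩ := h.common_three hp hq (by rw [hpq, ← map_pow, ce_pow.2.1, map_one]) hne
  obtain ⟨d, hd, rfl⟩ := h.three_comm_y hr3 (hpq ▸ (hrp.mul_right hrq).eq)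
  have hd1 : d ≠ 1 := fun e => hr1 (by rw [e, map_one])
  by_cases hY : IsY d
  · obtain ⟨t, -, ht⟩ := yType d hd hY
    have key : ∀ x : G, x ^ 3 = 1 → Commute (Φ d) x → Commute x (Φ mc) := by
      intro x hx hxc
      obtain ⟨e, he, hee⟩ := h.three_comm_y (r := Φ t * x * (Φ t)⁻¹) (by rw [conj_pow, hx]; simp)
        (by rw [← conj_map_of_conj Φ ht]; exact ((Commute.conj_iff (Φ t)).mpr hxc.symm).eq)
      have hx' : x = Φ (t⁻¹ * e * t) := by rw [map_mul, map_mul, map_inv, ← hee]; group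
      subst hx'
      have := three_comm_Y d hd hY (t⁻¹ * e * t) (h.inj (by rw [map_pow, hx, map_one]))
        (h.inj (by rw [map_mul Φ _ d, map_mul Φ d]; exact hxc.symm.eq))
      exact (show Commute (t⁻¹ * e * t) mc from this.1).map Φ
    exact Or.inl ⟨key p hp hrp, key q hq hrq⟩
  · rcases not_isY d hd hd1 hY with e | e | e | e <;> subst e <;>
      (try simp only [map_inv, Commute.inv_left_iff] at hrp hrq)
    · exact Or.inl ⟨hrp.symm, hrq.symm⟩
    · exact Or.inl ⟨hrp.symm, hrq.symm⟩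
    · exact Or.inr ⟨hrp.symm, hrq.symm⟩
    · exact Or.inr ⟨hrp.symm, hrq.symm⟩

omit [Finite G] in
theorem conj_w {a p : G} (hc : IsConj a p) : IsConj a (w * p * w) :=
  hc.trans (isConj_iff.mpr ⟨w, by rw [h.w_inv]⟩)

omit [Finite G] in
/-- A pair of factors inside the centralizer of `z`. -/
theorem factor_inside {p q : G} (hpq : p * q = Φ (mc * me)) (hp : p ^ 3 = 1) (hq : q ^ 3 = 1)
    (hcp : Commute p (Φ mc)) :
    ∃ x : L360, x * mc = mc * x ∧ x ^ 3 = 1 ∧ (x⁻¹ * (mc * me)) ^ 3 = 1 ∧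
      Φ x = p ∧ Φ (x⁻¹ * (mc * me)) = q := by
  obtain ⟨x, hx⟩ := h.cz p hcp.eq
  have eq' : Φ (x⁻¹ * (mc * me)) = q := by rw [map_mul, map_inv, hx, ← hpq, inv_mul_cancel_left]
  exact ⟨x, h.inj (by rw [map_mul, map_mul, hx]; exact hcp.eq), h.inj (by rw [map_pow, hx, hp, map_one]),
    h.inj (by rw [map_pow, eq', hq, map_one]), hx, eq'⟩

omit [Finite G] in
theorem isY_iff {x : L360} (hx : x ^ 3 = 1) (hx1 : x ≠ 1) :
    IsY x ↔ IsConj (Φ (mc * me)) (Φ x) := by
  refine ⟨(h.conj_three x hx hx1).1, fun hc => by_contra fun hn => ?_⟩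
  exact h.not_conj_zy (((h.conj_three x hx hx1).2 hn).trans hc.symm)

omit [Finite G] in
theorem three_of_conj {a p : G} (ha : a ^ 3 = 1) (ha1 : a ≠ 1) (hc : IsConj a p) :
    p ^ 3 = 1 ∧ p ≠ 1 := by
  obtain ⟨g, rfl⟩ := isConj_iff.mp hc
  exact ⟨by rw [conj_pow, ha]; simp, fun e => ha1 (conj_eq_one_iff.mp e)⟩

omit [Finite G] in
theorem y_facts : Φ (mc * me) ^ 3 = 1 ∧ Φ (mc * me) ≠ 1 ∧ Φ mc ^ 3 = 1 ∧ Φ mc ≠ 1 :=
  ⟨by rw [← map_pow, ce_pow.2.1, map_one], fun e => ce_pow.2.2 (h.inj (by rw [e, map_one])),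
    by rw [← map_pow, mc_mc.1, map_one], fun e => mc_mc.2 (h.inj (by rw [e, map_one]))⟩

/-- The number of products `y z = y`. -/
theorem count_yzy :
    Nat.card {p : G × G // IsConj (Φ (mc * me)) p.1 ∧ IsConj (Φ mc) p.2 ∧ p.1 * p.2 = Φ (mc * me)} = 14 := by
  obtain ⟨hy3, hy1, hz3, hz1⟩ := h.y_facts
  have inside : ∀ x ∈ setY, IsConj (Φ (mc * me)) (Φ x) ∧ IsConj (Φ mc) (Φ (x⁻¹ * (mc * me))) ∧
      Φ x * Φ (x⁻¹ * (mc * me)) = Φ (mc * me) := by
    intro x hx
    simp only [setY, Finset.mem_filter, Finset.mem_univ, true_and] at hx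
    obtain ⟨-, hx3, hxY, hy3', hy1', hyZ⟩ := hx
    refine ⟨(h.conj_three x hx3 (fun e => hxY.1 (by simp [e]))).1 hxY,
      (h.conj_three _ hy3' hy1').2 hyZ, ?_⟩
    rw [← map_mul, mul_inv_cancel_left]
  let T := {p : G × G // IsConj (Φ (mc * me)) p.1 ∧ IsConj (Φ mc) p.2 ∧ p.1 * p.2 = Φ (mc * me)}
  let f : ({x // x ∈ setY} ⊕ {x // x ∈ setY.filter fun x => ¬ InD x}) → T := fun s =>
    match s with
    | .inl x => ⟨(Φ x.1, Φ (x.1⁻¹ * (mc * me))), inside x.1 x.2⟩
    | .inr x => ⟨(w * Φ x.1 * w, w * Φ (x.1⁻¹ * (mc * me)) * w), by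
        obtain ⟨h1, h2, h3⟩ := inside x.1 (Finset.mem_filter.mp x.2).1
        refine ⟨h.conj_w h1, h.conj_w h2, ?_⟩
        rw [← h.ww_mul, h3, h.w_ce, mul_assoc, h.w_sq, mul_one]⟩
  have hf : Function.Bijective f := by
    refine ⟨?_, ?_⟩
    · have key : ∀ x x' : L360, x ∈ setY → x' ∈ setY → ¬ InD x' → Φ x ≠ w * Φ x' * w := by
        intro x x' hx hx' hn e
        simp only [setY, Finset.mem_filter, Finset.mem_univ, true_and] at hx hx'
        have hxD : InD x := by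
          refine ⟨hx.1, ?_, hx.2.1⟩
          refine h.inj ?_
          rw [map_mul, map_mul, e, ← h.w_c, ← h.ww_mul, ← h.ww_mul, ← map_mul, ← map_mul, hx'.1]
        obtain ⟨i, j, rfl⟩ := (inD_iff x).mp hxD
        refine hn ((inD_iff _).mpr ⟨j, i, h.inj ?_⟩)
        rw [← h.w_D i j, e, h.w_w]
      rintro (⟨x, hx⟩ | ⟨x, hx⟩) (⟨x', hx'⟩ | ⟨x', hx'⟩) e
      · have e' : Φ x = Φ x' := congrArg (fun t : T => t.1.1) e
        obtain rfl := h.inj e'
        rfl
      · exact absurd (congrArg (fun t : T => t.1.1) e)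
          (key x x' hx (Finset.mem_filter.mp hx').1 (Finset.mem_filter.mp hx').2)
      · exact absurd (congrArg (fun t : T => t.1.1) e).symm
          (key x' x hx' (Finset.mem_filter.mp hx).1 (Finset.mem_filter.mp hx).2)
      · have e' : w * Φ x * w = w * Φ x' * w := congrArg (fun t : T => t.1.1) e
        obtain rfl := h.inj (mul_left_cancel (mul_right_cancel e'))
        rfl
    · rintro ⟨⟨p, q⟩, hp, hq, hpq⟩
      obtain ⟨hp3, hp1⟩ := h.three_of_conj hy3 hy1 hp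
      obtain ⟨hq3, hq1⟩ := h.three_of_conj hz3 hz1 hq
      have mk : ∀ p' q' : G, IsConj (Φ (mc * me)) p' → IsConj (Φ mc) q' → p' * q' = Φ (mc * me) →
          p' ^ 3 = 1 → q' ^ 3 = 1 → p' ≠ 1 → q' ≠ 1 → Commute p' (Φ mc) →
          ∃ x ∈ setY, Φ x = p' ∧ Φ (x⁻¹ * (mc * me)) = q' := by
        intro p' q' h1 h2 h3 h4 h5 h6 h7 h8
        obtain ⟨x, hxc, hx3, hy3', e1, e2⟩ := h.factor_inside h3 h4 h5 h8
        have hx1 : x ≠ 1 := fun e => h6 (by rw [← e1, e, map_one])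
        have hy1' : x⁻¹ * (mc * me) ≠ 1 := fun e => h7 (by rw [← e2, e, map_one])
        have hyZ : ¬ IsY (x⁻¹ * (mc * me)) := fun hY =>
          h.not_conj_zy ((e2 ▸ h2).trans ((h.isY_iff hy3' hy1').mp hY).symm)
        exact ⟨x, Finset.mem_filter.mpr ⟨Finset.mem_univ _, hxc, hx3,
          (h.isY_iff hx3 hx1).mpr (e1 ▸ h1), hy3', hy1', hyZ⟩, e1, e2⟩
      have hne : ¬ (IsConj p q ∧ IsConj p⁻¹ (p * q)) := fun hh =>
        h.not_conj_zy (hq.trans ((hp.trans hh.1).symm))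
      rcases h.factor_local hp3 hq3 hpq hne with ⟨hpc, -⟩ | ⟨hpc, -⟩
      · obtain ⟨x, hx, e1, e2⟩ := mk p q hp hq hpq hp3 hq3 hp1 hq1 hpc
        exact ⟨.inl ⟨x, hx⟩, Subtype.ext (Prod.ext e1 e2)⟩
      · have hne1 : ∀ r : G, r ≠ 1 → w * r * w ≠ 1 := fun r hr e => hr (by
          rw [← h.w_w r, e, mul_one, h.w_sq])
        obtain ⟨x, hx, e1, e2⟩ := mk (w * p * w) (w * q * w) (h.conj_w hp) (h.conj_w hq)
          (by rw [← h.ww_mul, hpq, h.w_ce, mul_assoc, h.w_sq, mul_one])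
          (by rw [← h.w_pow, hp3, mul_one, h.w_sq]) (by rw [← h.w_pow, hq3, mul_one, h.w_sq])
          (hne1 p hp1) (hne1 q hq1)
          (show w * p * w * Φ mc = Φ mc * (w * p * w) by
            rw [← h.w_e, ← h.ww_mul, ← h.ww_mul, hpc.eq])
        by_cases hD : InD x
        · obtain ⟨i, j, rfl⟩ := (inD_iff x).mp hD
          have ep : Φ (mc ^ j.val * me ^ i.val) = p := by rw [← h.w_D, e1, h.w_w]
          refine ⟨.inl ⟨_, setY_swap i j hx⟩, Subtype.ext (Prod.ext ep ?_)⟩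
          show Φ ((mc ^ j.val * me ^ i.val)⁻¹ * (mc * me)) = q
          rw [map_mul, map_inv, ep, ← hpq, inv_mul_cancel_left]
        · refine ⟨.inr ⟨x, Finset.mem_filter.mpr ⟨hx, hD⟩⟩, Subtype.ext (Prod.ext ?_ ?_)⟩
          · show w * Φ x * w = p
            rw [e1, h.w_w]
          · show w * Φ (x⁻¹ * (mc * me)) * w = q
            rw [e2, h.w_w]
  rw [← Nat.card_eq_of_bijective f hf, Nat.card_sum, Nat.card_eq_fintype_card, Nat.card_eq_fintype_card,
    Fintype.card_coe, Fintype.card_coe, setY_card.1, setY_card.2]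

/-- The number of products `z z = y`. -/
theorem count_zzy :
    Nat.card {p : G × G // IsConj (Φ mc) p.1 ∧ IsConj (Φ mc) p.2 ∧ p.1 * p.2 = Φ (mc * me)} = 2 := by
  obtain ⟨hy3, hy1, hz3, hz1⟩ := h.y_facts
  let T := {p : G × G // IsConj (Φ mc) p.1 ∧ IsConj (Φ mc) p.2 ∧ p.1 * p.2 = Φ (mc * me)}
  let f : {x // x ∈ setZ} → T := fun x => ⟨(Φ x.1, Φ (x.1⁻¹ * (mc * me))), by
    have hx := x.2
    simp only [setZ, Finset.mem_filter, Finset.mem_univ, true_and] at hx
    obtain ⟨-, hx3, hx1, hxZ, hy3', hy1', hyZ⟩ := hx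
    exact ⟨(h.conj_three _ hx3 hx1).2 hxZ, (h.conj_three _ hy3' hy1').2 hyZ,
      by rw [← map_mul, mul_inv_cancel_left]⟩⟩
  have hf : Function.Bijective f := by
    refine ⟨fun a b e => Subtype.ext (h.inj (congrArg (fun t : T => t.1.1) e)), ?_⟩
    rintro ⟨⟨p, q⟩, hp, hq, hpq⟩
    obtain ⟨hp3, hp1⟩ := h.three_of_conj hz3 hz1 hp
    obtain ⟨hq3, hq1⟩ := h.three_of_conj hz3 hz1 hq
    have mk : ∀ p' q' : G, IsConj (Φ mc) p' → IsConj (Φ mc) q' → p' * q' = Φ (mc * me) →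
        p' ^ 3 = 1 → q' ^ 3 = 1 → p' ≠ 1 → q' ≠ 1 → Commute p' (Φ mc) →
        ∃ x ∈ setZ, Φ x = p' := by
      intro p' q' h1 h2 h3 h4 h5 h6 h7 h8
      obtain ⟨x, hxc, hx3, hy3', e1, e2⟩ := h.factor_inside h3 h4 h5 h8
      have hx1 : x ≠ 1 := fun e => h6 (by rw [← e1, e, map_one])
      have hy1' : x⁻¹ * (mc * me) ≠ 1 := fun e => h7 (by rw [← e2, e, map_one])
      have hxZ : ¬ IsY x := fun hY => h.not_conj_zy ((e1 ▸ h1).trans ((h.isY_iff hx3 hx1).mp hY).symm)
      have hyZ : ¬ IsY (x⁻¹ * (mc * me)) := fun hY =>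
        h.not_conj_zy ((e2 ▸ h2).trans ((h.isY_iff hy3' hy1').mp hY).symm)
      exact ⟨x, Finset.mem_filter.mpr ⟨Finset.mem_univ _, hxc, hx3, hx1, hxZ, hy3', hy1', hyZ⟩, e1⟩
    have hne : ¬ (IsConj p q ∧ IsConj p⁻¹ (p * q)) := fun hh => by
      refine h.not_conj_zy ?_
      have hzinv : IsConj (Φ mc) (Φ mc)⁻¹ := isConj_iff.mpr ⟨Φ mtz, by
        rw [conj_map_of_conj Φ tz_facts.1, map_inv]⟩
      obtain ⟨g, rfl⟩ := isConj_iff.mp hp
      have hpinv : IsConj (Φ mc)⁻¹ (g * Φ mc * g⁻¹)⁻¹ := isConj_iff.mpr ⟨g, by group⟩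
      rw [← hpq]
      exact (hzinv.trans hpinv).trans hh.2
    suffices ∃ x ∈ setZ, Φ x = p by
      obtain ⟨x, hx, e⟩ := this
      refine ⟨⟨x, hx⟩, Subtype.ext (Prod.ext e ?_)⟩
      show Φ (x⁻¹ * (mc * me)) = q
      rw [map_mul, map_inv, e, ← hpq, inv_mul_cancel_left]
    rcases h.factor_local hp3 hq3 hpq hne with ⟨hpc, -⟩ | ⟨hpc, -⟩
    · exact mk p q hp hq hpq hp3 hq3 hp1 hq1 hpc
    · have hne1 : ∀ r : G, r ≠ 1 → w * r * w ≠ 1 := fun r hr e => hr (by
        rw [← h.w_w r, e, mul_one, h.w_sq])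
      obtain ⟨x, hx, e1⟩ := mk (w * p * w) (w * q * w) (h.conj_w hp) (h.conj_w hq)
        (by rw [← h.ww_mul, hpq, h.w_ce, mul_assoc, h.w_sq, mul_one])
        (by rw [← h.w_pow, hp3, mul_one, h.w_sq]) (by rw [← h.w_pow, hq3, mul_one, h.w_sq])
        (hne1 p hp1) (hne1 q hq1)
        (show w * p * w * Φ mc = Φ mc * (w * p * w) by
          rw [← h.w_e, ← h.ww_mul, ← h.ww_mul, hpc.eq])
      obtain ⟨i, j, rfl⟩ := (inD_iff x).mp (setZ_inD x hx)
      exact ⟨_, setZ_swap i j hx, by rw [← h.w_D, e1, h.w_w]⟩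
  rw [← Nat.card_eq_of_bijective f hf, Nat.card_eq_fintype_card, Fintype.card_coe, setZ_card]

end Loc

end CfsgLib.AEightLocal
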