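import Cfsg.Agent.Lib.AEightLocal.Classes
import Cfsg.Agent.Lib.Char.SmallPermChars
import Cfsg.Agent.Lib.Char.Ortho
import Cfsg.Agent.Lib.SmallGroups.DihedralThree.Local
import Cfsg.Agent.Lib.InvolChar.Basic
import Mathlib

/-!
Integrality of the values of an irreducible character on the six classes.
-/

set_option autoImplicit false

namespace CfsgLib.AEightLocal

open Cfsg CfsgLib.Char CfsgLib.InvolChar
open CfsgLib.SmallGroups.DihedralThree (twisted_sum value_conj)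
open scoped ComplexConjugate

universe u

/-! ### Roots of unity -/

/-- A primitive cube root of unity. -/
noncomputable def omg : ℂ := Complex.exp (2 * Real.pi * Complex.I / (3 : ℕ))

/-- A primitive fifth root of unity. -/
noncomputable def zet : ℂ := Complex.exp (2 * Real.pi * Complex.I / (5 : ℕ))

theorem omg_spec : omg ^ 3 = 1 ∧ 1 + omg + omg ^ 2 = 0 ∧ conj omg = omg ^ 2 := by
  have h : IsPrimitiveRoot omg 3 := Complex.isPrimitiveRoot_exp 3 (by norm_num)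
  have h3 : omg ^ 3 = 1 := h.pow_eq_one
  refine ⟨h3, ?_, ?_⟩
  · have hs := h.geom_sum_eq_zero (by norm_num)
    simp only [Finset.sum_range_succ, Finset.sum_range_zero] at hs
    linear_combination hs
  · rw [← Complex.inv_eq_conj (norm_eq_one_of_pow_eq_one' (by norm_num) h3)]
    exact inv_eq_of_mul_eq_one_right (by rw [← pow_succ']; exact h3)

theorem zet_spec : zet ^ 5 = 1 ∧ 1 + zet + zet ^ 2 + zet ^ 3 + zet ^ 4 = 0 ∧ conj zet = zet ^ 4 := by
  have h : IsPrimitiveRoot zet 5 := Complex.isPrimitiveRoot_exp 5 (by norm_num)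
  have h5 : zet ^ 5 = 1 := h.pow_eq_one
  refine ⟨h5, ?_, ?_⟩
  · have hs := h.geom_sum_eq_zero (by norm_num)
    simp only [Finset.sum_range_succ, Finset.sum_range_zero] at hs
    linear_combination hs
  · rw [← Complex.inv_eq_conj (norm_eq_one_of_pow_eq_one' (by norm_num) h5)]
    exact inv_eq_of_mul_eq_one_right (by rw [← pow_succ']; exact h5)

/-- The square root of `-15`. -/
noncomputable def eta : ℂ := (omg - omg ^ 2) * (zet + zet ^ 4 - zet ^ 2 - zet ^ 3)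

theorem eta_sq : eta * eta = -15 := by
  obtain ⟨h3, hs3, -⟩ := omg_spec
  obtain ⟨h5, hs5, -⟩ := zet_spec
  have e1 : (omg - omg ^ 2) * (omg - omg ^ 2) = -3 := by
    linear_combination (omg - 2) * h3 + hs3
  have e2 : (zet + zet ^ 4 - zet ^ 2 - zet ^ 3) * (zet + zet ^ 4 - zet ^ 2 - zet ^ 3) = 5 := by
    linear_combination (zet ^ 3 - 2 * zet ^ 2 - zet + 4) * h5 - hs5
  calc eta * eta = (omg - omg ^ 2) * (omg - omg ^ 2) *
        ((zet + zet ^ 4 - zet ^ 2 - zet ^ 3) * (zet + zet ^ 4 - zet ^ 2 - zet ^ 3)) := by rw [eta]; ring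
    _ = -15 := by rw [e1, e2]; norm_num

theorem eta_conj : conj eta = -eta := by
  obtain ⟨h3, -, hc3⟩ := omg_spec
  obtain ⟨h5, -, hc5⟩ := zet_spec
  rw [eta, map_mul, map_sub, map_sub, map_sub, map_add, map_pow, map_pow, map_pow, map_pow, hc3, hc5]
  have e1 : omg ^ 2 - (omg ^ 2) ^ 2 = -(omg - omg ^ 2) := by linear_combination (-omg) * h3
  have e2 : zet ^ 4 + (zet ^ 4) ^ 4 - (zet ^ 4) ^ 2 - (zet ^ 4) ^ 3 = zet + zet ^ 4 - zet ^ 2 - zet ^ 3 := by
    linear_combination (zet * (zet ^ 10 + zet ^ 5 + 1) - zet ^ 3 - zet ^ 2 * (zet ^ 5 + 1)) * h5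
  rw [e1, e2]; ring

/-- The powers of an element of order dividing `n`. -/
def powHom {M : Type*} [Monoid M] (n : ℕ) [NeZero n] (x : M) (hx : x ^ n = 1) :
    Multiplicative (ZMod n) →* M where
  toFun k := x ^ k.toAdd.val
  map_one' := by simp
  map_mul' a b := by rw [toAdd_mul, ZMod.val_add, ← pow_eq_pow_mod _ hx, pow_add]

theorem powHom_apply {M : Type*} [Monoid M] (n : ℕ) [NeZero n] (x : M) (hx : x ^ n = 1) (k : ZMod n) :
    powHom n x hx (Multiplicative.ofAdd k) = x ^ k.val := rfl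

theorem sum_three (F : Multiplicative (ZMod 3) → ℂ) :
    ∑ k, F k = F (Multiplicative.ofAdd 0) + F (Multiplicative.ofAdd 1) + F (Multiplicative.ofAdd 2) := by
  rw [← Equiv.sum_comp Multiplicative.ofAdd F]
  exact Fin.sum_univ_three (fun k : ZMod 3 => F (Multiplicative.ofAdd k))

theorem sum_two (F : Multiplicative (ZMod 2) → ℂ) :
    ∑ k, F k = F (Multiplicative.ofAdd 0) + F (Multiplicative.ofAdd 1) := by
  rw [← Equiv.sum_comp Multiplicative.ofAdd F]
  exact Fin.sum_univ_two (fun k : ZMod 2 => F (Multiplicative.ofAdd k))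

theorem sum_five (F : Multiplicative (ZMod 5) → ℂ) :
    ∑ k, F k = F (Multiplicative.ofAdd 0) + F (Multiplicative.ofAdd 1) + F (Multiplicative.ofAdd 2) +
      F (Multiplicative.ofAdd 3) + F (Multiplicative.ofAdd 4) := by
  rw [← Equiv.sum_comp Multiplicative.ofAdd F]
  exact Fin.sum_univ_five (fun k : ZMod 5 => F (Multiplicative.ofAdd k))

theorem twist_apply {A B : Type*} [MulOneClass A] [MulOneClass B] (f : A →* ℂˣ) (g : B →* ℂˣ) (a : A) (b : B) :
    (((f.comp (MonoidHom.fst A B)) * (g.comp (MonoidHom.snd A B))) (a, b) : ℂ) = (f a : ℂ) * (g b : ℂ) := by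
  simp

/-! ### Characters of `A₅` -/

/-- Characters of `A₅`: `1`, `4`, `5` and `3 + 3'`. -/
noncomputable def theta : Fin 4 → alternatingGroup (Fin 5) → ℂ :=
  ![fun _ => 1, fun a => SmallPerm.chi1 (Fin 5) (a : Equiv.Perm (Fin 5)),
    fun a => SmallPerm.chi22 (Fin 5) (a : Equiv.Perm (Fin 5)),
    fun a => SmallPerm.chi11 (Fin 5) (a : Equiv.Perm (Fin 5))]

/-- The values of `theta` on the classes. -/
def thetaVal : Fin 4 → Fin 5 → ℤ :=
  ![![1, 1, 1, 1, 1], ![4, 0, 1, -1, -1], ![5, 1, -1, 0, 0], ![6, -2, 0, 1, 1]]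

theorem perm_irreducible :
    Cfsg.IsIrrCharacter (Equiv.Perm (Fin 5)) (SmallPerm.chi1 (Fin 5)) ∧
      Cfsg.IsIrrCharacter (Equiv.Perm (Fin 5)) (SmallPerm.chi22 (Fin 5)) ∧
      Cfsg.IsIrrCharacter (Equiv.Perm (Fin 5)) (SmallPerm.chi11 (Fin 5)) := by
  haveI : MulAction.IsMultiplyPretransitive (Equiv.Perm (Fin 5)) (Fin 5) 4 :=
    Equiv.Perm.isMultiplyPretransitive (Fin 5) 4
  exact SmallPerm.irreducible (by simp)

theorem theta_isChar (i : Fin 4) : Cfsg.IsCharacter (alternatingGroup (Fin 5)) (theta i) := by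
  obtain ⟨h1, h2, h3⟩ := perm_irreducible
  fin_cases i
  · exact isCharacter_one
  · exact isCharacter_comp (isCharacter_of_isIrr h1) (alternatingGroup (Fin 5)).subtype
  · exact isCharacter_comp (isCharacter_of_isIrr h2) (alternatingGroup (Fin 5)).subtype
  · exact isCharacter_comp (isCharacter_of_isIrr h3) (alternatingGroup (Fin 5)).subtype

theorem theta_rep (i : Fin 4) (j : Fin 5) : theta i (rep5 j) = (thetaVal i j : ℂ) := by
  have hf : SmallPerm.fx (Fin 5) (rep5 j : Equiv.Perm (Fin 5)) = ![5, 1, 2, 0, 0] j := by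
    rw [SmallPerm.fx, ← (rep5_fixed j).1, ← Fintype.card_subtype, ← Nat.card_eq_fintype_card]
    exact Nat.card_congr (Equiv.subtypeEquivRight fun a => by simp)
  have hd : SmallPerm.dx (Fin 5) (rep5 j : Equiv.Perm (Fin 5)) = ![0, 4, 0, 0, 0] j := by
    rw [SmallPerm.dx, ← (rep5_fixed j).2, ← Fintype.card_subtype, ← Nat.card_eq_fintype_card]
    exact Nat.card_congr (Equiv.subtypeEquivRight fun a => by simp [Equiv.Perm.smul_def])
  have h1 : SmallPerm.chi1 (Fin 5) (rep5 j : Equiv.Perm (Fin 5)) = (thetaVal 1 j : ℂ) := by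
    rw [SmallPerm.chi1, hf]; fin_cases j <;> simp [thetaVal] <;> norm_num
  have h2 : SmallPerm.chi22 (Fin 5) (rep5 j : Equiv.Perm (Fin 5)) = (thetaVal 2 j : ℂ) := by
    rw [SmallPerm.chi22, hf, hd]; fin_cases j <;> simp [thetaVal] <;> norm_num
  have h3 : SmallPerm.chi11 (Fin 5) (rep5 j : Equiv.Perm (Fin 5)) = (thetaVal 3 j : ℂ) := by
    rw [SmallPerm.chi11, hf, hd]; fin_cases j <;> simp [thetaVal] <;> norm_num
  fin_cases i
  · show (1 : ℂ) = _
    fin_cases j <;> simp [thetaVal] <;> norm_num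
  · exact h1
  · exact h2
  · exact h3

theorem theta_kind (i : Fin 4) (a : alternatingGroup (Fin 5)) :
    theta i a = (thetaVal i (kind5 a) : ℂ) := by
  obtain ⟨b, hb⟩ := kind5_spec a
  rw [← theta_rep]
  exact (isClassFunction_iff.mp (isClassFunction_of_isCharacter (theta_isChar i)) _ _
    (isConj_iff.mpr ⟨b, hb⟩)).symm

theorem sum_kind (F : Fin 5 → ℂ) :
    ∑ a : alternatingGroup (Fin 5), F (kind5 a) = ∑ j, ((![1, 15, 20, 12, 12] j : ℕ) : ℂ) * F j := by
  classical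
  rw [← Finset.sum_fiberwise Finset.univ kind5]
  refine Finset.sum_congr rfl fun j _ => ?_
  rw [Finset.sum_congr rfl fun a ha => by rw [(Finset.mem_filter.mp ha).2], Finset.sum_const, kind5_card,
    nsmul_eq_mul]

/-! ### The values -/

variable {G : Type u} [Group G] [Fintype G] {Φ : L360 →* G} {w : G}

/-- Values on the six classes. -/
noncomputable def val (Φ : L360 →* G) (w : G) (χ : IrrCharacter G) (k : Fin 6) : ℂ :=
  (χ : G → ℂ) (cls Φ w k)

/-- Sums over a coset of `A₅`. -/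
noncomputable def cosetSum (Φ : L360 →* G) (χ : IrrCharacter G) (i : Fin 4) (k : Fin 3) : ℂ :=
  ∑ j, ((![1, 15, 20, 12, 12] j : ℕ) : ℂ) * ((thetaVal i j : ℂ) * (χ : G → ℂ) (Φ (repCA k j)))

theorem value_conj_map (χ : IrrCharacter G) {x y : L360} (h : ∃ a, a * x * a⁻¹ = y) :
    (χ : G → ℂ) (Φ x) = (χ : G → ℂ) (Φ y) := by
  obtain ⟨a, ha⟩ := h
  exact value_conj χ (isConj_iff.mpr ⟨Φ a, conj_map_of_conj Φ ha⟩)

theorem coset_mult (χ : IrrCharacter G) (i : Fin 4) :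
    ∃ n0 n1 : ℕ, cosetSum Φ χ i 0 + 2 * cosetSum Φ χ i 1 = 180 * (n0 : ℂ) ∧
      cosetSum Φ χ i 0 - cosetSum Φ χ i 1 = 180 * (n1 : ℂ) := by
  classical
  obtain ⟨h3, hs3, -⟩ := omg_spec
  have hmem : ∀ (k : Fin 3) (a : alternatingGroup (Fin 5)),
      (χ : G → ℂ) (Φ (emb (Multiplicative.ofAdd (k.val : ZMod 3), a))) =
        (χ : G → ℂ) (Φ (repCA k (kind5 a))) := by
    intro k a
    obtain ⟨b, hb⟩ := kind5_spec a
    obtain ⟨r, hr⟩ := emb_rep k (kind5 a)
    refine value_conj_map χ ⟨r * (emb (1, b))⁻¹, ?_⟩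
    rw [← hr, mul_inv_rev, inv_inv]
    calc r * (emb (1, b))⁻¹ * emb (Multiplicative.ofAdd (k.val : ZMod 3), a) * (emb (1, b) * r⁻¹)
        = r * ((emb (1, b))⁻¹ * emb (Multiplicative.ofAdd (k.val : ZMod 3), a) * emb (1, b)) * r⁻¹ := by
          simp only [mul_assoc]
      _ = _ := by
        rw [← map_inv, ← map_mul, ← map_mul]
        congr 3
        ext1
        · simp
        · simp only [Prod.snd_mul, Prod.snd_inv]
          rw [mul_assoc, inv_mul_eq_iff_eq_mul]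
          exact (mul_inv_eq_iff_eq_mul.mp hb).symm
  have key : ∀ u : ℂ, ∀ hu : u ^ 3 = 1, ∃ n : ℕ,
      cosetSum Φ χ i 0 + conj u * cosetSum Φ χ i 1 + conj (u ^ 2) * cosetSum Φ χ i 2 = 180 * (n : ℂ) := by
    intro u hu
    have hu' : (Units.mk0 u (fun e => by simp [e] at hu)) ^ 3 = 1 := Units.ext (by simpa using hu)
    let H := Multiplicative (ZMod 3) × alternatingGroup (Fin 5)
    let lam : H →* ℂˣ := (powHom 3 _ hu').comp (MonoidHom.fst (Multiplicative (ZMod 3)) (alternatingGroup (Fin 5)))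
    let psi : H → ℂ := (fun p => (lam p : ℂ)) * (theta i ∘ MonoidHom.snd _ _)
    have hpsi : Cfsg.IsCharacter H psi :=
      isCharacter_mul (isCharacter_of_isIrr (isIrrCharacter_units_hom lam))
        (isCharacter_comp (H := Multiplicative (ZMod 3) × alternatingGroup (Fin 5)) (theta_isChar i)
          (MonoidHom.snd _ _))
    obtain ⟨n, hn⟩ := classInner_char_nat (isCharacter_comp (isCharacter_of_isIrr χ.2) (Φ.comp emb)) hpsi
    refine ⟨n, ?_⟩
    rw [classInner_def, inv_mul_eq_iff_eq_mul₀ card_ne_zero'] at hn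
    have hcard : Nat.card H = 180 := by
      show Nat.card (Multiplicative (ZMod 3) × alternatingGroup (Fin 5)) = 180
      rw [Nat.card_prod, Nat.card_congr Multiplicative.toAdd, Nat.card_zmod, nat_card_alternatingGroup,
        Nat.card_fin]
      rfl
    rw [hcard] at hn
    have hrow : ∀ k : Fin 3, ∑ a : alternatingGroup (Fin 5),
        ((χ : G → ℂ) ∘ (Φ.comp emb)) (Multiplicative.ofAdd (k.val : ZMod 3), a) *
          conj (psi (Multiplicative.ofAdd (k.val : ZMod 3), a)) = conj (u ^ k.val) * cosetSum Φ χ i k := by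
      intro k
      have hv : (k.val : ZMod 3).val = k.val := ZMod.val_cast_of_lt k.isLt
      rw [cosetSum, ← sum_kind (fun j => (thetaVal i j : ℂ) * (χ : G → ℂ) (Φ (repCA k j))), Finset.mul_sum]
      refine Finset.sum_congr rfl fun a _ => ?_
      have hlam : (lam (Multiplicative.ofAdd (k.val : ZMod 3), a) : ℂ) = u ^ k.val := by
        show ((((Units.mk0 u _) ^ (k.val : ZMod 3).val : ℂˣ)) : ℂ) = u ^ k.val
        rw [hv, Units.val_pow_eq_pow_val, Units.val_mk0]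
      simp only [psi, hlam, Function.comp_apply, Pi.mul_apply, MonoidHom.comp_apply,
        MonoidHom.coe_snd, theta_kind,
        map_mul, map_intCast, hmem]
      ring
    rw [Fintype.sum_prod_type, sum_three] at hn
    have h0 := hrow 0
    have h1 := hrow 1
    have h2 := hrow 2
    simp only [Fin.val_zero, Fin.val_one, Fin.val_two, Nat.cast_zero, Nat.cast_one, Nat.cast_ofNat,
      pow_zero, pow_one, map_one, one_mul] at h0 h1 h2
    rw [h0, h1, h2] at hn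
    push_cast at hn
    exact hn
  have h12 : cosetSum Φ χ i 2 = cosetSum Φ χ i 1 := by
    simp only [cosetSum, Fin.sum_univ_five]
    fin_cases i <;> simp [thetaVal, repCA] <;> ring
  obtain ⟨n0, e0⟩ := key 1 (one_pow 3)
  obtain ⟨n1, e1⟩ := key omg h3
  refine ⟨n0, n1, ?_, ?_⟩
  · simp only [one_pow, map_one, h12] at e0
    linear_combination e0
  · rw [map_pow, omg_spec.2.2, h12] at e1
    linear_combination e1 - cosetSum Φ χ i 1 * hs3 - cosetSum Φ χ i 1 * omg * h3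

theorem fifteen_mult (u v : ℂ) (hu : u ^ 3 = 1) (hv : v ^ 5 = 1) (χ : IrrCharacter G) :
    ∃ n : ℤ, (χ : G → ℂ) 1 + (χ : G → ℂ) (Φ mf) * (v + v ^ 2 + v ^ 3 + v ^ 4) +
      u * ((χ : G → ℂ) (Φ mc) + (χ : G → ℂ) (Φ (mc * mf)) * (v + v ^ 4) +
        (χ : G → ℂ) (Φ (mc * mf ^ 2)) * (v ^ 2 + v ^ 3)) +
      u ^ 2 * ((χ : G → ℂ) (Φ mc) + (χ : G → ℂ) (Φ (mc * mf ^ 2)) * (v + v ^ 4) +
        (χ : G → ℂ) (Φ (mc * mf)) * (v ^ 2 + v ^ 3)) = 15 * (n : ℂ) := by
  have hu' : (Units.mk0 u (fun e => by simp [e] at hu)) ^ 3 = 1 := Units.ext (by simpa using hu)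
  have hv' : (Units.mk0 v (fun e => by simp [e] at hv)) ^ 5 = 1 := Units.ext (by simpa using hv)
  let j : Multiplicative (ZMod 3) × Multiplicative (ZMod 5) →* L360 :=
    { toFun := fun p => cf p.1.toAdd p.2.toAdd
      map_one' := cf_zero
      map_mul' := fun p q => cf_mul _ _ _ _ }
  obtain ⟨n, hn⟩ := twisted_sum (Φ.comp j)
    ((powHom 3 _ hu').comp (MonoidHom.fst _ _) * (powHom 5 _ hv').comp (MonoidHom.snd _ _)) χ
  refine ⟨n, ?_⟩
  have hval : ∀ (k : Fin 3) (l : Fin 5), (χ : G → ℂ) ((Φ.comp j)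
      (Multiplicative.ofAdd (k.val : ZMod 3), Multiplicative.ofAdd (l.val : ZMod 5))) =
      (χ : G → ℂ) (Φ (repCF k l)) := fun k l => value_conj_map χ (cf_rep k l)
  rw [Fintype.sum_prod_type] at hn
  simp only [sum_three, sum_five, twist_apply, powHom_apply, Units.val_pow_eq_pow_val, Units.val_mk0] at hn
  have a00 := hval 0 0; have a01 := hval 0 1; have a02 := hval 0 2; have a03 := hval 0 3; have a04 := hval 0 4
  have a10 := hval 1 0; have a11 := hval 1 1; have a12 := hval 1 2; have a13 := hval 1 3; have a14 := hval 1 4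
  have a20 := hval 2 0; have a21 := hval 2 1; have a22 := hval 2 2; have a23 := hval 2 3; have a24 := hval 2 4
  simp only [Fin.val_zero, Fin.val_one, Fin.val_two, show ((3 : Fin 5) : ℕ) = 3 from rfl,
    show ((4 : Fin 5) : ℕ) = 4 from rfl, Nat.cast_zero, Nat.cast_one, Nat.cast_ofNat]
    at a00 a01 a02 a03 a04 a10 a11 a12 a13 a14 a20 a21 a22 a23 a24
  rw [a00, a01, a02, a03, a04, a10, a11, a12, a13, a14, a20, a21, a22, a23, a24] at hn
  simp only [repCF, Matrix.cons_val, map_one, show (0 : ZMod 3).val = 0 from rfl,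
    show (1 : ZMod 3).val = 1 from rfl, show (2 : ZMod 3).val = 2 from rfl,
    show (0 : ZMod 5).val = 0 from rfl, show (1 : ZMod 5).val = 1 from rfl,
    show (2 : ZMod 5).val = 2 from rfl, show (3 : ZMod 5).val = 3 from rfl,
    show (4 : ZMod 5).val = 4 from rfl, Fintype.card_prod, Fintype.card_multiplicative, ZMod.card,
    pow_zero, pow_one] at hn
  push_cast at hn
  linear_combination hn

theorem six_mult (h : Loc Φ w) (u : ℂ) (hu : u ^ 3 = 1) (χ : IrrCharacter G) :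
    ∃ n : ℤ, (χ : G → ℂ) 1 - (χ : G → ℂ) w + (u + u ^ 2) * (val Φ w χ 2 - val Φ w χ 3) = 6 * (n : ℂ) := by
  have hu' : (Units.mk0 u (fun e => by simp [e] at hu)) ^ 3 = 1 := Units.ext (by simpa using hu)
  have hy3 : (Φ (mc * me)) ^ 3 = 1 := by rw [← map_pow, ce_pow.2.1, map_one]
  let j : Multiplicative (ZMod 3) × Multiplicative (ZMod 2) →* G :=
    MonoidHom.noncommCoprod (powHom 3 _ hy3) (powHom 2 w (by rw [pow_two, h.w_sq]))
      (fun a b => ((show Commute (Φ (mc * me)) w from h.w_ce.symm).pow_pow _ _))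
  have hneg : (-1 : ℂˣ) ^ 2 = 1 := by simp
  obtain ⟨n, hn⟩ := twisted_sum j
    ((powHom 3 _ hu').comp (MonoidHom.fst _ _) * (powHom 2 _ hneg).comp (MonoidHom.snd _ _)) χ
  refine ⟨n, ?_⟩
  rw [Fintype.sum_prod_type] at hn
  have hj : ∀ (a : ZMod 3) (b : ZMod 2),
      j (Multiplicative.ofAdd a, Multiplicative.ofAdd b) = Φ (mc * me) ^ a.val * w ^ b.val := fun _ _ => rfl
  have hy2 : Φ (mc * me) ^ 2 = (Φ (mc * me))⁻¹ :=
    eq_inv_of_mul_eq_one_left (by rw [← pow_succ]; exact hy3)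
  have e2 : (χ : G → ℂ) (Φ (mc * me) ^ 2) = val Φ w χ 2 := by
    rw [hy2]; exact (value_conj χ (h.cls_inv 2)).symm
  have e3 : (χ : G → ℂ) (Φ (mc * me) ^ 2 * w) = val Φ w χ 3 := by
    rw [hy2, show (Φ (mc * me))⁻¹ * w = (Φ (mc * me) * w)⁻¹ by
      rw [mul_inv_rev, h.w_inv]; exact ((show Commute w (Φ (mc * me)) from h.w_ce).inv_right).eq.symm]
    exact (value_conj χ (h.cls_inv 3)).symm
  simp only [sum_three, sum_two, twist_apply, powHom_apply, hj,
    show (0 : ZMod 3).val = 0 from rfl, show (1 : ZMod 3).val = 1 from rfl,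
    show (2 : ZMod 3).val = 2 from rfl, show (0 : ZMod 2).val = 0 from rfl,
    show (1 : ZMod 2).val = 1 from rfl, Units.val_pow_eq_pow_val, Units.val_mk0, Units.val_neg,
    Units.val_one, pow_zero, pow_one, one_mul, mul_one, e2, e3, Fintype.card_prod,
    Fintype.card_multiplicative, ZMod.card] at hn
  rw [show (χ : G → ℂ) (Φ (mc * me)) = val Φ w χ 2 from rfl,
    show (χ : G → ℂ) (Φ (mc * me) * w) = val Φ w χ 3 from rfl] at hn
  push_cast at hn
  linear_combination hn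

/-- The coordinates `[I, e', c₄, c₁, c₅, c₆]` in terms of the six values. -/
noncomputable def wt : Fin 6 → Fin 6 → ℂ :=
  ![![0, 0, 0, 0, eta / 15, -eta / 15], ![-1 / 60, -15 / 60, 10 / 60, -1 / 2, -12 / 60, -12 / 60],
    ![4 / 60, 0, 20 / 60, 0, -12 / 60, -12 / 60], ![1 / 60, 15 / 60, 20 / 60, 0, 12 / 60, 12 / 60],
    ![5 / 60, 15 / 60, -20 / 60, 0, 0, 0], ![6 / 60, -30 / 60, 0, 0, 12 / 60, 12 / 60]]

/-- The coordinates are integers with the expected parity, congruence and bound. -/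
theorem values (h : Loc Φ w) (χ : IrrCharacter G) :
    ∃ c : Fin 6 → ℤ, (∀ i, (c i : ℂ) = ∑ k, wt i k * val Φ w χ k) ∧ (c 5 - c 0) % 2 = 0 ∧
      val Φ w χ 0 = ((c 3 + 4 * c 2 + 5 * c 4 + 3 * c 5 : ℤ) : ℂ) ∧
      val Φ w χ 2 = ((c 3 + c 2 - c 4 : ℤ) : ℂ) ∧
      c 3 + 4 * c 2 + 5 * c 4 + 3 * c 5 + 3 * (c 2 + 2 * c 4 + c 5 + 3 * max 0 (-c 2) +
        6 * max (max 0 (-c 4)) (max 0 (-c 3) + max 0 (-c 2) - (c 2 + 2 * c 4 + c 5))) +
          9 * max 0 (-c 5) ≤ (deg χ : ℤ) ∧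
      (9 : ℤ) ∣ (deg χ : ℤ) - (2 * (c 3 + 4 * c 2 + 5 * c 4 + 3 * c 5) - (c 3 + c 2 - c 4)) := by
  obtain ⟨h3, hs3, -⟩ := omg_spec
  obtain ⟨h5, hs5, -⟩ := zet_spec
  obtain ⟨a0, b0, p0, q0⟩ := coset_mult (Φ := Φ) χ 0
  obtain ⟨a1, b1, p1, q1⟩ := coset_mult (Φ := Φ) χ 1
  obtain ⟨a2, b2, p2, q2⟩ := coset_mult (Φ := Φ) χ 2
  obtain ⟨a3, b3, p3, q3⟩ := coset_mult (Φ := Φ) χ 3
  obtain ⟨n01, e01⟩ := fifteen_mult (Φ := Φ) 1 zet (one_pow 3) h5 χ
  obtain ⟨n11, e11⟩ := fifteen_mult (Φ := Φ) omg zet h3 h5 χ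
  obtain ⟨n12, e12⟩ := fifteen_mult (Φ := Φ) omg (zet ^ 2) h3 (by rw [← pow_mul, mul_comm, pow_mul, h5, one_pow]) χ
  obtain ⟨m0, g0⟩ := six_mult h 1 (one_pow 3) χ
  obtain ⟨m1, g1⟩ := six_mult h omg h3 χ
  have hce : (χ : G → ℂ) (Φ me) = val Φ w χ 0 := (value_conj χ h.conj_c_e).symm
  simp only [cosetSum, Fin.sum_univ_five, thetaVal, repCA, Matrix.cons_val, Int.cast_ofNat,
    Int.cast_one, Int.cast_zero, Int.cast_neg, Nat.cast_ofNat, Nat.cast_one, hce, map_one]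
    at p0 q0 p1 q1 p2 q2 p3 q3
  simp only [show (χ : G → ℂ) (Φ mc) = val Φ w χ 0 from rfl,
    show (χ : G → ℂ) (Φ (mc * mtu)) = val Φ w χ 1 from rfl,
    show (χ : G → ℂ) (Φ (mc * me)) = val Φ w χ 2 from rfl,
    show (χ : G → ℂ) (Φ (mc * mf)) = val Φ w χ 4 from rfl,
    show (χ : G → ℂ) (Φ (mc * mf ^ 2)) = val Φ w χ 5 from rfl, deg_spec]
    at p0 q0 p1 q1 p2 q2 p3 q3 e01 e11 e12 g0 g1
  set Z := val Φ w χ 0
  set Zi := val Φ w χ 1
  set Y := val Φ w χ 2
  set B := val Φ w χ 3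
  set A := val Φ w χ 4
  set A' := val Φ w χ 5
  set F := (χ : G → ℂ) (Φ mf)
  have hI : ((n11 - n12 : ℤ) : ℂ) = eta / 15 * A - eta / 15 * A' := by
    push_cast
    rw [eta]
    linear_combination (-e11 + e12) / 15 -
      (F * (zet ^ 3 + zet) + omg * A * zet ^ 3 + omg * A' * zet + omg ^ 2 * A' * zet ^ 3 +
        omg ^ 2 * A * zet) / 15 * h5
  have hc0 : ((a0 - b0 : ℤ) : ℂ) = (1 * Z + 15 * Zi + 20 * Y + 12 * A + 12 * A') / 60 := by
    push_cast; linear_combination (-p0 + q0) / 180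
  have hc1 : ((a1 - b1 : ℤ) : ℂ) = (4 * Z + 20 * Y - 12 * A - 12 * A') / 60 := by
    push_cast; linear_combination (-p1 + q1) / 180
  have hc2 : ((a2 - b2 : ℤ) : ℂ) = (5 * Z + 15 * Zi - 20 * Y) / 60 := by
    push_cast; linear_combination (-p2 + q2) / 180
  have hc3 : ((a3 - b3 : ℤ) : ℂ) = (6 * Z - 30 * Zi + 12 * A + 12 * A') / 60 := by
    push_cast; linear_combination (-p3 + q3) / 180
  have hem : ((m0 - m1 : ℤ) : ℂ) = (Y - B) / 2 := by
    push_cast
    linear_combination (-g0 + g1 - (Y - B) * hs3) / 6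
  have hY : Y = (((a0 - b0) + (a1 - b1) - (a2 - b2) : ℤ) : ℂ) := by
    push_cast at hc0 hc1 hc2 ⊢; linear_combination -hc0 - hc1 + hc2
  have hZ : Z = (((a0 - b0) + 4 * (a1 - b1) + 5 * (a2 - b2) + 3 * (a3 - b3) : ℤ) : ℂ) := by
    push_cast at hc0 hc1 hc2 hc3 ⊢; linear_combination -hc0 - 4 * hc1 - 5 * hc2 - 3 * hc3
  have hZ' : (((a0 - b0 : ℤ) + 4 * (a1 - b1) + 5 * (a2 - b2) + 3 * (a3 - b3)) : ℤ) =
      (a0 + 2 * b0) + (a1 + 2 * b1) - ((a2 : ℤ) + 2 * b2) := by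
    refine (@Int.cast_inj ℂ _ _ _ _).mp ?_
    rw [← hZ]
    push_cast
    linear_combination (p0 + 2 * q0 + p1 + 2 * q1 - p2 - 2 * q2) / 180
  have hd : (deg χ : ℤ) = (a0 + 2 * b0) + 4 * (a1 + 2 * b1) + 5 * (a2 + 2 * b2) + 3 * (a3 + 2 * b3) := by
    refine (@Int.cast_inj ℂ _ _ _ _).mp ?_
    push_cast
    linear_combination (p0 + 2 * q0 + 4 * (p1 + 2 * q1) + 5 * (p2 + 2 * q2) + 3 * (p3 + 2 * q3)) / 180
  have hs : n11 + n12 = 2 * ((b1 : ℤ) + b2) + b3 := by
    refine (@Int.cast_inj ℂ _ _ _ _).mp ?_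
    push_cast
    linear_combination (-e11 - e12) / 15 + (2 * q1 + 2 * q2 + q3) / 180 +
      (2 * Z + (A + A') * (zet + zet ^ 2 + zet ^ 3 + zet ^ 4)) / 15 * hs3 +
      (2 * F - (A + A')) / 15 * hs5 +
      (F * (zet ^ 3 + zet) + omg * A * zet ^ 3 + omg * A' * zet + omg ^ 2 * A' * zet ^ 3 +
        omg ^ 2 * A * zet) / 15 * h5
  have ht : 2 * n01 = 2 * ((a1 : ℤ) + a2) + a3 := by
    refine (@Int.cast_inj ℂ _ _ _ _).mp ?_
    push_cast
    linear_combination -2 * e01 / 15 + (2 * p1 + 2 * p2 + p3) / 180 + 2 * (F + A + A') / 15 * hs5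
  refine ⟨![n11 - n12, (m0 - m1) - ((a0 : ℤ) - b0), (a1 : ℤ) - b1, (a0 : ℤ) - b0, (a2 : ℤ) - b2, (a3 : ℤ) - b3],
    fun i => ?_, ?_, ?_, ?_, ?_, ?_⟩
  · fin_cases i <;> simp only [Fin.sum_univ_six, wt, Matrix.cons_val, Fin.isValue, Fin.zero_eta,
      Fin.mk_one, Fin.reduceFinMk]
    · linear_combination hI
    · push_cast at hem hc0 ⊢; linear_combination hem - hc0
    · linear_combination hc1
    · linear_combination hc0
    · linear_combination hc2
    · linear_combination hc3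
  all_goals simp only [Matrix.cons_val]
  · omega
  · exact hZ
  · exact hY
  · omega
  · omega

end CfsgLib.AEightLocal
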